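import Cfsg.Agent.TitsQ.Ext

set_option autoImplicit false
set_option Elab.async false
set_option maxRecDepth 100000
set_option linter.all false

namespace Cfsg.Agent.TitsQ
open Cfsg.Agent.CGT

open Cfsg.Agent.Inv

noncomputable def ca_l0 : Level := ⟨0, [[0], [2], [4], [6], [8], [10], [12], [14], [16]], [0, 1, 2, 3, 4, 5, 6, 7, 8, 0, 2, 5, 0, 3, 1, 0], 0x7ffffffffffffffffffffffffffffffffffffffffffffffffffffffffffffffffffffffffffffffffffffffffffffffffffffffffffffffffffffffffffffffffffffffffffffffffffffffffffffffffffffffffffffffffffffffffffffffffffffffffffffffffffffffffffffffffffffffffffffffffffffffffffffffffffffffffffffffffffffffffffffffffffffffffffffffffffffffffffffffffffffffffffffffffffffffffffffffffffffffffffffffffffffffffffffffffffffffffffffffffffffffffffffffffffffffffffffffffffffff, 1755⟩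
noncomputable def ca_l1 : Level := ⟨299, [[2], [4], [6], [8], [10], [12], [14], [16]], [1, 2, 3, 4, 5, 6, 7, 1, 0, 1, 4, 1, 2], 0x7ffffffffffffffff800000000000000000007ffffff80000000007ffffffffffff80000000007ffffffffffffff80000000000000007ffffffffffffffff800000000000000000007ffffffffffffffffffffffffffffff8000007ffffffffffff80000000007ffffffffffffff800000007ffffffffffff80007ffffffffffffffffff8000000000000000007ffffffffffffffff8000007ffffffffffffffffff8000000000007ffffffffffff80007ffffffffff8000007ffffffffffffffff8000007ffffffffffffffffff800000000000000000000000000, 1024⟩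
noncomputable def ca_l2 : Level := ⟨98, [[14, 5, 11, 5, 11], [16, 6, 4, 2, 4, 6, 10]], [], 0x8000000000000000000000000000000040400000000000000000002000000000000000000000000020000100000000000000000000000000004000000000000000000000000000000000000000000000000000000000000001000000000000000000000000000000000000000000000000000000000000000000000000000000000000000000000000000000000000000000000000000000000000000000000000000000000000000000000000000000000000000000000000000000000000000000000000005000000000000000000000000, 10⟩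
noncomputable def ca_ls : List Level := [ca_l0, ca_l1, ca_l2]
noncomputable def ca_S : Srch := ⟨11, x_ts, (chainBase [] c2_ls), [30], [30], []⟩
noncomputable def ca_lk : List ℕ := [1, 300]
noncomputable def ca_tl : List Level := [ca_l1, ca_l2]
noncomputable def ca_R0 : ℕ := 0x108000014201a08800000000000000000000000033000020004002000000400068000000000001000000800c000000000100000000000000000004401c0000000000000000000000000001a008020080480003b08092004100000000801820102000000000000000000001b480040000000000311001004000000200020004b082040000000000000004000300900000861008800800000000000000c00004000200000000800000000006081870000000000110a00000000000001000008492d80000000020009080410b100000008000000000000080001d801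
theorem ca_l0_ok : (ptsOK 11 [] && (wordsIn [0, 2, 4, 6, 8, 10, 12, 14, 16, 18, 20, 22, 24, 26, 28, 30] ca_l0.S && ca_l0.ok 11 x_ns x_ts [])) = true := by decide +kernel
theorem ca_l1_ok : (ptsOK 11 [0] && (wordsIn [0, 2, 4, 6, 8, 10, 12, 14, 16, 18, 20, 22, 24, 26, 28, 30] ca_l1.S && ca_l1.ok 11 x_ns x_ts [0])) = true := by decide +kernel
theorem ca_l2_ok : ca_l2.okT 11 x_ts [0, 2, 4, 6, 8, 10, 12, 14, 16, 18, 20, 22, 24, 26, 28, 30] [299, 0] (.cons [0] (.cons [2] (.cons [2] .nil .nil) (.cons [3] (.cons [3] .nil .nil) .nil)) (.cons [2] (.cons [2] .nil .nil) (.cons [3] (.cons [3] .nil .nil) .nil))) = true := by decide +kernel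
theorem ca_aux : ca_S.auxB [0, 2, 4, 6, 8, 10, 12, 14, 16, 18, 20, 22, 24, 26, 28, 30] ca_ls [] (0 :: ca_lk) = true := by decide +kernel
theorem ca_cov : Nat.beq (Nat.land ca_l0.O (Srch.cover x_ns (invW ca_S.u') ca_R0 12)) ca_l0.O = true := by decide +kernel
theorem ca_r0 : ca_S.run (.cons [] (.cons [] (.cons [] (.leaf 2000) .nil) .nil) (.cons [0] (.cons [9, 6] .nil .nil) (.cons [2, 0] (.cons [3, 4, 2, 0, 2] .nil .nil) (.cons [4, 0] (.cons [3, 9, 4] .nil .nil) (.cons [5, 0] .nil (.cons [6, 0] .nil (.cons [7, 0] (.cons [2, 14, 4, 2] .nil .nil) (.cons [8, 0] .nil (.cons [10, 0] (.cons [5, 5, 3, 0, 2] .nil .nil) (.cons [11, 0] (.cons [2, 0, 2, 8, 3] .nil .nil) (.cons [12, 0] .nil (.cons [14, 0] (.cons [4, 9, 3, 0, 3] .nil .nil) (.cons [2, 5, 0] .nil (.cons [5, 5, 0] (.cons [4, 14, 2, 0, 2] .nil .nil) (.cons [6, 5, 0] (.cons [12, 5, 3, 3] .nil .nil) (.cons [7, 5, 0] (.cons [2, 2, 5] .nil .nil) (.cons [8, 5,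 0] .nil (.cons [10, 5, 0] (.cons [4, 2, 0, 4, 2] .nil .nil) (.cons [11, 5, 0] (.cons [2, 0, 14, 4, 2] .nil .nil) (.cons [12, 5, 0] (.cons [0, 4, 2, 10] .nil .nil) (.cons [14, 5, 0] (.cons [3, 6, 4, 3] .nil .nil) (.cons [4, 10, 0] (.cons [8, 3] .nil .nil) (.cons [5, 10, 0] .nil (.cons [6, 10, 0] .nil (.cons [8, 10, 0] (.cons [3, 3, 0, 4] .nil .nil) (.cons [10, 10, 0] (.cons [12, 4, 2, 0, 2] .nil .nil) (.cons [12, 10, 0] (.cons [3, 3, 0, 4] .nil .nil) (.cons [4, 11, 0] (.cons [6, 14, 2, 12] .nil .nil) (.cons [5, 11, 0] (.cons [0, 6, 3] .nil .nil) (.cons [6, 11, 0] (.cons [8, 0, 9, 3] .nil .nil) (.cons [8, 11, 0] (.cons [5, 2, 0, 2, 14] .nil .nil) (.cons [12, 11, 0] (.cons [0, 5] .nil .nil) (.cons [14, 11, 0] .nil (.cons [16, 11, 0] .nil (.cons [0, 4, 0] .nil (.cons [4, 4, 0] (.cons [6, 0, 3, 14] .nil .nil) (.cons [6, 4, 0] (.cons [10, 14, 6] .nil .nil) (.cons [8, 4, 0] .nil (.cons [10, 4, 0] (.cons [3, 6,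 0, 3] .nil .nil) (.cons [12, 4, 0] .nil (.cons [2, 8, 0] (.cons [10, 6] .nil .nil) (.cons [4, 8, 0] (.cons [8, 2] .nil .nil) (.cons [5, 8, 0] .nil (.cons [6, 8, 0] (.cons [3, 0, 3, 6] .nil .nil) (.cons [7, 8, 0] (.cons [3, 14, 4, 2] .nil .nil) (.cons [10, 8, 0] (.cons [14, 2, 5] .nil .nil) (.cons [11, 8, 0] .nil (.cons [12, 8, 0] .nil (.cons [14, 8, 0] .nil (.cons [0, 6, 0] (.cons [5, 10] .nil .nil) (.cons [2, 6, 0] (.cons [8, 3, 0, 2, 4] .nil .nil) (.cons [4, 6, 0] (.cons [10, 14, 6, 3] .nil .nil) (.cons [5, 6, 0] .nil (.cons [6, 6, 0] (.cons [2, 0, 14, 4, 2] .nil .nil) (.cons [10, 6, 0] (.cons [8, 2, 2, 5, 0, 3] .nil .nil) (.cons [12, 6, 0] (.cons [2, 10, 0, 3] .nil .nil) (.cons [0, 2, 0] (.cons [10, 3, 6] .nil .nil) (.cons [5, 2, 0] .nil (.cons [6, 2, 0] (.cons [5, 2, 10, 0, 2] .nil .nil) (.cons [8, 2, 0] (.cons [3, 3, 0, 14] .nil .nil) (.cons [16, 2, 0] .nil (.cons [4, 7, 0] .nil (.cons [10, 7, 0]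 .nil (.cons [12, 7, 0] .nil (.cons [14, 7, 0] (.cons [0, 3, 10] .nil .nil) (.cons [16, 7, 0] .nil (.cons [0, 14, 0] .nil (.cons [0, 12, 0] (.cons [14, 2, 5, 0, 3] (.cons [2, 2] (.leaf 3) .nil) .nil) (.cons [2, 12, 0] .nil (.cons [4, 12, 0] .nil (.cons [5, 12, 0] (.cons [0, 5, 2, 10] .nil .nil) (.cons [7, 12, 0] .nil (.cons [10, 12, 0] .nil (.cons [16, 12, 0] .nil (.cons [0, 16, 0] .nil (.cons [4, 0, 16, 0] (.cons [5, 9, 2, 9] .nil .nil) (.cons [5, 0, 16, 0] (.cons [2, 8, 0, 3, 3] .nil .nil) (.cons [7, 0, 16, 0] (.cons [9, 5, 2, 6] .nil .nil) (.cons [8, 0, 16, 0] .nil (.cons [2, 10, 10, 0] (.cons [14, 0, 5, 3, 3] .nil .nil) (.cons [4, 10, 10, 0] .nil (.cons [5, 10, 10, 0] .nil (.cons [14, 10, 10, 0] .nil (.cons [0, 6, 4, 0] (.cons [3, 9] .nil .nil) (.cons [6, 6, 4, 0] (.cons [2, 9, 0, 2, 2] .nil .nil) (.cons [8, 6, 4, 0] (.cons [5, 3, 8, 3] .nil .nil) (.cons [10, 6, 4, 0] (.cons [0, 3, 8, 3, 14] .nil .nil)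 (.cons [12, 6, 4, 0] (.cons [9, 4, 3, 0, 3] .nil .nil) (.cons [16, 6, 4, 0] .nil (.cons [0, 2, 5, 0] (.cons [3, 10, 8, 3] .nil .nil) (.cons [6, 2, 5, 0] (.cons [6, 10, 3, 5] .nil .nil) (.cons [8, 2, 5, 0] .nil (.cons [11, 2, 5, 0] .nil (.cons [0, 5, 6, 0] .nil (.cons [2, 5, 6, 0] .nil (.cons [6, 5, 6, 0] (.cons [0, 2, 5, 2, 10] .nil .nil) (.cons [11, 16, 5, 0] (.cons [2, 5, 2, 0, 2, 12] .nil .nil) (.cons [12, 16, 5, 0] (.cons [3, 5, 0, 4, 3] .nil .nil) (.cons [8, 10, 12, 0] (.cons [6, 3, 4, 2, 0, 2] .nil .nil) (.cons [4, 16, 2, 0] (.cons [6, 0, 9, 2] .nil .nil) (.cons [8, 16, 2, 0] .nil (.cons [10, 16, 2, 0] (.cons [14, 8, 0, 3, 3] .nil .nil) (.cons [14, 16, 2, 0] .nil (.cons [0, 16, 12, 0] .nil (.cons [10, 4, 4, 0] .nil (.cons [16, 4, 4, 0] (.cons [3, 14] .nil .nil) (.cons [2, 10, 7, 0] .nil (.cons [5, 5, 12, 0] (.cons [8, 4, 3, 4] .nil .nil) (.cons [8, 5, 12, 0] (.cons [9, 3, 10, 4] .nil .nil) (.cons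 [4, 7, 12, 0] (.cons [3, 6, 0, 2, 2] .nil .nil) (.cons [0, 2, 8, 0] (.cons [8, 2, 9, 3] .nil .nil) (.cons [5, 2, 8, 0] .nil (.cons [11, 2, 8, 0] (.cons [8, 3, 4] .nil .nil) (.cons [7, 2, 6, 0] .nil (.cons [11, 2, 6, 0] (.cons [3, 9, 0, 3, 3] .nil .nil) (.cons [4, 11, 7, 0] (.cons [5, 0, 3, 8] .nil .nil) (.cons [7, 8, 2, 0] (.cons [9, 6, 3, 3] .nil .nil) (.cons [12, 8, 2, 0] .nil (.cons [2, 5, 8, 0] (.cons [14, 4, 3] .nil .nil) (.cons [7, 11, 8, 0] (.cons [6, 3, 0, 2, 2] .nil .nil) (.cons [7, 0, 10, 0] .nil (.cons [5, 7, 5, 0] (.cons [5, 12, 14] .nil .nil) (.cons [12, 7, 5, 0] (.cons [0, 14, 2, 4] .nil .nil) (.cons [4, 4, 8, 0] .nil (.cons [8, 4, 8, 0] (.cons [2, 0, 6, 3] .nil .nil) (.cons [12, 0, 14, 0] .nil (.cons [16, 12, 11, 0] (.cons [14, 5] .nil .nil) (.cons [2, 0, 2, 0] .nil (.cons [12, 0, 2, 0] (.cons [0, 4, 9, 3, 3] .nil .nil) (.cons [2, 12, 6, 0] .nil (.cons [7, 0, 5, 0] .nil (.cons [11, 0, 5,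 0] .nil (.cons [12, 0, 6, 0] (.cons [0, 3, 0, 3] .nil .nil) (.cons [2, 8, 0, 16, 0] (.cons [2, 0, 3, 9] .nil .nil) (.cons [0, 2, 0, 16, 0] (.cons [0, 2, 9, 3] .nil .nil) .nil))))))))))))))))))))))))))))))))))))))))))))))))))))))))))))))))))))))))))))))))))))))))))))))))))))))))))))))))))))))))))))))))))))))) (⟨ca_l0.b, ca_l0.S, [], ca_R0, 0⟩ :: ca_tl) (0 :: ca_lk) Pd.nil 0 = true := by decide +kernel
theorem ca_sound {G : Type*} [Group G] {φ : G →* Equiv.Perm ℕ} {γ : ℕ → G}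
    (M : Model φ γ 11 x_ns x_ts) : ChainSound φ (gp γ [0, 2, 4, 6, 8, 10, 12, 14, 16, 18, 20, 22, 24, 26, 28, 30]) 11 [] ca_ls :=
  ⟨Level.ok_sound' M ca_l0_ok,
   Level.ok_sound' M ca_l1_ok,
   Level.okT_sound M ca_l2_ok, trivial⟩
theorem ca_cent {G : Type*} [Group G] {φ : G →* Equiv.Perm ℕ} {γ : ℕ → G}
    (C : Cert φ γ 11 x_ns x_ts [0, 2, 4, 6, 8, 10, 12, 14, 16, 18, 20, 22, 24, 26, 28, 30] c2_ls) : Cent γ ca_S.u ca_S.Cl 12 :=
  have X := (C.rechain (ca_sound C.M) (by decide +kernel)).exact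
  have A := Srch.auxB_sound (S := ca_S) C.M (K := ⊤) le_top rfl ca_aux
  have F := fun {tr : Tr} {R : ℕ} => Srch.found_of_run (S := ca_S) C.M C.base (by decide +kernel) X A (tr := tr) (R := R)
  Cent.of_found (S := ca_S) C.M X rfl (F ca_r0) ca_cov

end Cfsg.Agent.TitsQ
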