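import Cfsg.Agent.TitsQ.Ext

set_option autoImplicit false
set_option Elab.async false
set_option maxRecDepth 100000
set_option linter.all false

namespace Cfsg.Agent.TitsQ
open Cfsg.Agent.CGT

open Cfsg.Agent.Inv

noncomputable def cb_l0 : Level := ⟨0, [[0], [2], [4], [6], [8], [10], [12], [14], [16]], [0, 1, 2, 3, 4, 5, 6, 7, 8, 0, 2, 5, 0, 3, 1, 0], 0x7ffffffffffffffffffffffffffffffffffffffffffffffffffffffffffffffffffffffffffffffffffffffffffffffffffffffffffffffffffffffffffffffffffffffffffffffffffffffffffffffffffffffffffffffffffffffffffffffffffffffffffffffffffffffffffffffffffffffffffffffffffffffffffffffffffffffffffffffffffffffffffffffffffffffffffffffffffffffffffffffffffffffffffffffffffffffffffffffffffffffffffffffffffffffffffffffffffffffffffffffffffffffffffffffffffffffffffffffffffffff, 1755⟩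
noncomputable def cb_l1 : Level := ⟨330, [[2], [4], [6], [8], [10], [12], [14], [16]], [0, 1, 2, 3, 6, 7, 0, 1, 4, 2, 1, 7, 0], 0x7ffffffffffffffff800000000000000000007ffffff80000000007ffffffffffff80000000007ffffffffffffff80000000000000007ffffffffffffffff800000000000000000007ffffffffffffffffffffffffffffff8000007ffffffffffff80000000007ffffffffffffff800000007ffffffffffff80007ffffffffffffffffff8000000000000000007ffffffffffffffff8000007ffffffffffffffffff8000000000007ffffffffffff80007ffffffffff8000007ffffffffffffffff8000007ffffffffffffffffff800000000000000000000000000, 1024⟩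
noncomputable def cb_l2 : Level := ⟨877, [[2, 11, 14], [5, 8, 5]], [], 0x2000000000000001000000000000021000000000000000000008000000002000000000000000000000000000000000000000000000000000000000000000000000000000400000000000000000000010000000000000000000000000000000000000000000000000000000000100000000000000000000000002000000000000000000000000000000000000, 10⟩
noncomputable def cb_ls : List Level := [cb_l0, cb_l1, cb_l2]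
noncomputable def cb_S : Srch := ⟨11, x_ts, (chainBase [] c2_ls), [22], [22], [[2, 0, 5, 2, 6, 4, 4, 6, 8, 16], [11, 0, 10, 5, 2, 5, 6, 10, 8, 16], [14, 7, 16, 0, 6, 0, 6, 4, 6, 10, 14], [11, 2, 4, 0, 6, 4], [5, 8, 0, 10, 12, 0, 6, 4, 2, 4, 8], [6, 12, 0, 16, 0, 4, 2, 4, 4, 11, 12, 14], [12, 5, 0, 2, 5, 8, 0, 6, 12, 16], [16, 7, 5, 5, 6, 0, 11, 11, 12, 14], [11, 7, 12, 0, 7, 2, 0, 5, 2, 4, 4, 10, 14], [8, 4, 4, 2, 0, 4, 4, 8, 11, 11], [14, 0, 10, 12, 0, 2, 10, 12, 16], [12, 8, 2, 0, 6, 4, 4, 2, 6, 12], [7, 2, 10, 0, 6, 4, 4, 2, 11, 8], [14, 16, 0, 2, 0, 4, 4, 2, 10, 12], [0, 8, 2, 5, 11, 5, 0, 4, 4, 10, 8], [2, 6, 11, 0, 5, 2, 4, 10], [0, 4, 11, 4, 0, 2, 6, 16], [4, 2, 7, 0, 2, 5, 8, 11, 11, 14], [10, 16, 6, 0, 5, 2, 4, 4, 6, 11, 16], [4, 8, 2, 0, 4, 11, 0, 5, 10, 8, 12], [10, 16, 12, 0, 11, 0, 2, 10, 12], [5, 12, 0, 2,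 11, 0, 4, 11, 11], [2, 14, 0, 12, 2, 0, 10, 5, 6, 11, 14], [2, 8, 0, 12, 14, 0, 10, 5, 16], [14, 6, 10, 0, 5, 11, 0, 2, 5, 11, 8], [12, 0, 5, 5, 0, 2, 5, 10, 12], [8, 0, 2, 5, 8, 0, 6, 4, 8, 12], [14, 8, 5, 0, 6, 2, 0, 5, 2, 10, 12], [0, 12, 0, 4, 12, 0, 4, 2, 4, 6, 12], [0, 6, 2, 5, 11, 7, 4, 8, 0, 6, 4, 10], [10, 8, 0, 16, 7, 0, 2, 5, 11], [6, 11, 16, 14, 0, 2, 5, 6, 4, 11, 12], [10, 4, 4, 7, 2, 0, 5, 6, 4, 10, 12], [14, 12, 4, 0, 4, 0, 5, 2, 10, 16], [6, 10, 0, 4, 10, 7, 0, 10, 5, 14]]⟩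
noncomputable def cb_lk : List ℕ := [1, 331]
noncomputable def cb_tl : List Level := [cb_l1, cb_l2]
noncomputable def cb_R0 : ℕ := 0x1011250007f607e9fc4148040830480000004728616d5001600043024846a2e151784400089094a4420203532eae000c42048004200010848290905869fce8050488020a0002002107348e61d03dcd21e47bc843e7eb1f4441080003a1ff58fe9038104000407cc2296817fbbcc05502108003093510cf63ed00c523300ba02bb1c3feca0801080000010c5042e0b00a0466390c933c23040723880b40ef36fe08472d04440400210b442a075e317940c426a09130fa200308171212818d02fd9c5c0181006c4819f2a373ff72812c0084200000460025cb801fc31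
theorem cb_l0_ok : (ptsOK 11 [] && (wordsIn [0, 2, 4, 6, 8, 10, 12, 14, 16, 18, 20, 22, 24, 26, 28, 30] cb_l0.S && cb_l0.ok 11 x_ns x_ts [])) = true := by decide +kernel
theorem cb_l1_ok : (ptsOK 11 [0] && (wordsIn [0, 2, 4, 6, 8, 10, 12, 14, 16, 18, 20, 22, 24, 26, 28, 30] cb_l1.S && cb_l1.ok 11 x_ns x_ts [0])) = true := by decide +kernel
theorem cb_l2_ok : cb_l2.okT 11 x_ts [0, 2, 4, 6, 8, 10, 12, 14, 16, 18, 20, 22, 24, 26, 28, 30] [330, 0] (.cons [0] (.cons [2] (.cons [0] (.cons [2] .nil .nil) .nil) .nil) (.cons [2] (.cons [0] (.cons [2] (.cons [0] (.cons [2] .nil .nil) .nil) .nil) .nil) .nil)) = true := by decide +kernel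
theorem cb_aux : cb_S.auxB [0, 2, 4, 6, 8, 10, 12, 14, 16, 18, 20, 22, 24, 26, 28, 30] cb_ls [] (0 :: cb_lk) = true := by decide +kernel
theorem cb_cov : Nat.beq (Nat.land cb_l0.O (Srch.cover x_ns (invW cb_S.u') cb_R0 2)) cb_l0.O = true := by decide +kernel
theorem cb_r0 : cb_S.run (.cons [] (.cons [] (.cons [] (.leaf 2000) .nil) .nil) (.cons [0] (.cons [12, 9, 5, 14] .nil .nil) (.cons [2, 0] (.cons [14, 0, 9, 2] (.cons [2, 0, 2, 0] (.leaf 0) .nil) .nil) (.cons [4, 0] .nil (.cons [5, 0] (.cons [8, 8] .nil .nil) (.cons [6, 0] .nil (.cons [7, 0] (.cons [12, 3, 3, 8] .nil .nil) (.cons [8, 0] .nil (.cons [10, 0] .nil (.cons [11, 0] (.cons [4, 14] (.cons [0, 2, 0, 2] (.leaf 2) .nil) .nil) (.cons [12, 0] .nil (.cons [14, 0] .nil (.cons [16, 0] .nil (.cons [0, 5, 0] .nil (.cons [2, 5, 0] (.cons [12, 2, 10] (.cons [2, 0, 2, 0, 2]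 (.leaf 4) .nil) .nil) (.cons [5, 5, 0] (.cons [8, 10] .nil .nil) (.cons [6, 5, 0] (.cons [8, 3, 0, 8, 3] .nil .nil) (.cons [7, 5, 0] (.cons [9, 5, 2, 6] .nil .nil) (.cons [8, 5, 0] .nil (.cons [10, 5, 0] .nil (.cons [11, 5, 0] .nil (.cons [12, 5, 0] .nil (.cons [14, 5, 0] .nil (.cons [16, 5, 0] (.cons [8, 3, 6] .nil .nil) (.cons [0, 10, 0] .nil (.cons [4, 10, 0] (.cons [4, 8, 3] .nil .nil) (.cons [5, 10, 0] .nil (.cons [6, 10, 0] (.cons [3, 4, 8, 2, 0, 2] .nil .nil) (.cons [7, 10, 0] (.cons [8, 3, 3, 0, 2, 5] .nil .nil) (.cons [8, 10, 0] (.cons [2, 8, 8] .nil .nil) (.cons [10, 10, 0] .nil (.cons [12, 10, 0] .nil (.cons [14, 10, 0] .nil (.cons [16, 10, 0] .nil (.cons [0, 11, 0] .nil (.cons [2, 11, 0] (.cons [0, 5, 3] .nil .nil) (.cons [4, 11, 0] (.cons [3, 3, 4, 0, 3] .nil .nil) (.cons [5, 11, 0] (.cons [3, 0, 8, 3] .nil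 .nil) (.cons [6, 11, 0] (.cons [0, 2, 10] .nil .nil) (.cons [7, 11, 0] .nil (.cons [8, 11, 0] (.cons [0, 5, 3, 4, 2] .nil .nil) (.cons [12, 11, 0] .nil (.cons [14, 11, 0] .nil (.cons [0, 4, 0] .nil (.cons [4, 4, 0] .nil (.cons [6, 4, 0] (.cons [9, 5, 12, 2, 0, 3] .nil .nil) (.cons [7, 4, 0] .nil (.cons [8, 4, 0] .nil (.cons [10, 4, 0] .nil (.cons [11, 4, 0] (.cons [3, 3, 0, 2, 5] (.cons [2, 0, 2, 0, 2] (.leaf 6) .nil) .nil) (.cons [12, 4, 0] .nil (.cons [14, 4, 0] (.cons [2, 8, 10, 3] (.cons [0, 2, 0, 2] (.leaf 8) .nil) .nil) (.cons [16, 4, 0] .nil (.cons [0, 8, 0] .nil (.cons [2, 8, 0] (.cons [2, 2, 9] .nil .nil) (.cons [4, 8, 0] (.cons [0, 3, 9] .nil .nil) (.cons [5, 8, 0] .nil (.cons [6, 8, 0] (.cons [3, 3, 0, 8, 3] .nil .nil) (.cons [7, 8, 0] (.cons [3, 3, 10, 9] .nil .nil) (.cons [11, 8, 0] .nil (.cons [12, 8, 0] .nil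 (.cons [14, 8, 0] .nil (.cons [16, 8, 0] .nil (.cons [0, 6, 0] .nil (.cons [4, 6, 0] .nil (.cons [5, 6, 0] (.cons [4, 3, 0, 3, 3, 4] .nil .nil) (.cons [6, 6, 0] (.cons [8, 10, 3] .nil .nil) (.cons [10, 6, 0] .nil (.cons [11, 6, 0] (.cons [4, 14, 2, 0, 2] .nil .nil) (.cons [12, 6, 0] (.cons [5, 14, 0, 2] .nil .nil) (.cons [14, 6, 0] .nil (.cons [16, 6, 0] (.cons [6, 3, 3, 0, 8, 2] .nil .nil) (.cons [0, 2, 0] (.cons [3, 4, 2, 12] .nil .nil) (.cons [4, 2, 0] .nil (.cons [5, 2, 0] (.cons [12, 5, 2] .nil .nil) (.cons [6, 2, 0] .nil (.cons [7, 2, 0] .nil (.cons [8, 2, 0] (.cons [3, 0, 10, 3] .nil .nil) (.cons [12, 2, 0] .nil (.cons [16, 2, 0] .nil (.cons [2, 7, 0] .nil (.cons [4, 7, 0] (.cons [8, 8, 3, 14] .nil .nil) (.cons [12, 7, 0] (.cons [3, 0, 2, 0, 4] .nil .nil) (.cons [14, 7, 0] .nil (.cons [16, 7, 0] (.cons [8, 2, 0, 2,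 10] .nil .nil) (.cons [0, 14, 0] .nil (.cons [12, 14, 0] .nil (.cons [16, 14, 0] .nil (.cons [0, 12, 0] .nil (.cons [2, 12, 0] (.cons [0, 3, 4, 14] .nil .nil) (.cons [4, 12, 0] (.cons [2, 0, 10, 3] .nil .nil) (.cons [5, 12, 0] .nil (.cons [6, 12, 0] .nil (.cons [7, 12, 0] .nil (.cons [10, 12, 0] (.cons [9, 14, 3, 0, 3] .nil .nil) (.cons [11, 12, 0] (.cons [9, 3, 3, 0, 8, 2] .nil .nil) (.cons [16, 12, 0] .nil (.cons [0, 16, 0] (.cons [3, 14, 0] .nil .nil) (.cons [2, 16, 0] (.cons [5, 3, 4, 2] .nil .nil) (.cons [2, 0, 16, 0] (.cons [3, 0, 2, 9, 2] .nil .nil) (.cons [4, 0, 16, 0] (.cons [3, 5, 6, 0, 2] (.cons [0] (.leaf 10) .nil) .nil) (.cons [5, 0, 16, 0] (.cons [6, 3, 5, 2] .nil .nil) (.cons [7, 0, 16, 0] (.cons [5, 6, 0, 2] .nil .nil) (.cons [8, 0, 16, 0] (.cons [3, 0, 3, 5, 0, 3] .nil .nil) (.cons [0, 10, 10, 0] .nil (.cons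 [2, 10, 10, 0] (.cons [5, 3, 14] .nil .nil) (.cons [5, 10, 10, 0] .nil (.cons [12, 10, 10, 0] .nil (.cons [14, 10, 10, 0] .nil (.cons [16, 10, 10, 0] .nil (.cons [0, 6, 4, 0] (.cons [5, 9, 2, 10, 0, 3] .nil .nil) (.cons [4, 6, 4, 0] .nil (.cons [5, 6, 4, 0] .nil (.cons [6, 6, 4, 0] (.cons [4, 2, 0, 3, 14] (.cons [0, 2] (.leaf 12) .nil) .nil) (.cons [8, 6, 4, 0] (.cons [14, 3, 8] .nil .nil) (.cons [10, 6, 4, 0] .nil (.cons [11, 6, 4, 0] .nil (.cons [14, 6, 4, 0] (.cons [5, 5, 2, 6] .nil .nil) (.cons [16, 6, 4, 0] .nil (.cons [0, 2, 5, 0] .nil (.cons [5, 2, 5, 0] (.cons [6, 4] .nil .nil) (.cons [6, 2, 5, 0] (.cons [8, 5, 0] .nil .nil) (.cons [7, 2, 5, 0] (.cons [8, 2, 0, 2, 10] .nil .nil) (.cons [8, 2, 5, 0] (.cons [10, 2, 5, 0, 2] .nil .nil) (.cons [10, 2, 5, 0] (.cons [12, 2, 10] .nil .nil) (.cons [11, 2, 5, 0] .nil (.cons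 [14, 2, 5, 0] .nil (.cons [16, 2, 5, 0] (.cons [4, 8] .nil .nil) (.cons [0, 5, 6, 0] .nil (.cons [7, 5, 6, 0] .nil (.cons [8, 5, 6, 0] (.cons [8, 4] .nil .nil) (.cons [10, 5, 6, 0] .nil (.cons [11, 5, 6, 0] (.cons [2, 8, 3] .nil .nil) (.cons [14, 5, 6, 0] .nil (.cons [0, 16, 5, 0] .nil (.cons [5, 16, 5, 0] .nil (.cons [6, 16, 5, 0] (.cons [10, 3, 3, 5, 0, 3] .nil .nil) (.cons [7, 16, 5, 0] (.cons [9, 3, 3, 5] .nil .nil) (.cons [8, 16, 5, 0] (.cons [3, 0, 4, 3] .nil .nil) (.cons [10, 16, 5, 0] (.cons [3, 5, 14, 2, 0, 2] .nil .nil) (.cons [11, 16, 5, 0] (.cons [9, 14, 0, 2] .nil .nil) (.cons [12, 16, 5, 0] .nil (.cons [14, 16, 5, 0] (.cons [2, 8, 10] .nil .nil) (.cons [0, 10, 12, 0] .nil (.cons [2, 10, 12, 0] .nil (.cons [7, 10, 12, 0] (.cons [5, 3, 3, 9] (.cons [] (.leaf 14) .nil) .nil) (.cons [8, 10, 12, 0] (.cons [12, 0,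 3, 4, 0, 3] (.cons [0] (.leaf 16) .nil) .nil) (.cons [4, 16, 2, 0] .nil (.cons [6, 16, 2, 0] .nil (.cons [7, 16, 2, 0] (.cons [10, 8] .nil .nil) (.cons [10, 16, 2, 0] (.cons [10, 3, 3, 4, 0, 2] .nil .nil) (.cons [11, 16, 2, 0] (.cons [0, 5, 2, 0, 2] .nil .nil) (.cons [12, 16, 2, 0] (.cons [2, 8, 14, 2, 0, 2] .nil .nil) (.cons [14, 16, 2, 0] (.cons [2, 0, 10, 8, 3] (.cons [2] (.leaf 18) .nil) .nil) (.cons [0, 16, 12, 0] (.cons [0, 2, 2, 10, 4] .nil .nil) (.cons [4, 16, 12, 0] (.cons [9, 3, 0, 3, 3, 4] .nil .nil) (.cons [5, 16, 12, 0] .nil (.cons [6, 16, 12, 0] (.cons [14, 6, 0, 2] .nil .nil) (.cons [7, 16, 12, 0] (.cons [14, 5, 9, 2] .nil .nil) (.cons [8, 16, 12, 0] .nil (.cons [11, 16, 12, 0] (.cons [8, 2, 0, 2] .nil .nil) (.cons [14, 16, 12, 0] (.cons [8, 3, 0, 4, 2] .nil .nil) (.cons [2, 4, 4, 0] .nil (.cons [6, 4, 4,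 0] .nil (.cons [7, 4, 4, 0] .nil (.cons [8, 4, 4, 0] (.cons [0, 3, 4, 3] (.cons [2, 0, 2] (.leaf 20) .nil) .nil) (.cons [10, 4, 4, 0] .nil (.cons [11, 4, 4, 0] (.cons [2, 4, 2, 0, 8, 3] .nil .nil) (.cons [12, 4, 4, 0] .nil (.cons [2, 10, 7, 0] (.cons [0, 4, 9, 2] .nil .nil) (.cons [4, 10, 7, 0] (.cons [9, 2, 8, 2] .nil .nil) (.cons [14, 10, 7, 0] .nil (.cons [16, 10, 7, 0] .nil (.cons [2, 5, 12, 0] .nil (.cons [5, 5, 12, 0] (.cons [10, 3, 6, 4] .nil .nil) (.cons [6, 5, 12, 0] (.cons [4, 9] .nil .nil) (.cons [4, 16, 10, 0] .nil (.cons [5, 16, 10, 0] (.cons [5, 0, 2, 8, 3] .nil .nil) (.cons [6, 16, 10, 0] (.cons [9, 2, 0, 10, 3] .nil .nil) (.cons [7, 16, 10, 0] .nil (.cons [8, 16, 10, 0] (.cons [0, 5, 2, 2, 9] .nil .nil) (.cons [12, 16, 10, 0] (.cons [0, 2, 4, 9, 2] .nil .nil) (.cons [14, 16, 10, 0] .nil (.cons [0, 7, 12,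 0] (.cons [3, 14, 0, 2] .nil .nil) (.cons [2, 7, 12, 0] .nil (.cons [0, 2, 8, 0] .nil (.cons [6, 2, 8, 0] (.cons [2, 0, 8, 2] .nil .nil) (.cons [7, 2, 8, 0] (.cons [0, 3, 3, 9] .nil .nil) (.cons [8, 2, 8, 0] .nil (.cons [14, 2, 8, 0] .nil (.cons [16, 2, 8, 0] .nil (.cons [0, 2, 6, 0] .nil (.cons [4, 2, 6, 0] .nil (.cons [5, 2, 6, 0] .nil (.cons [10, 2, 6, 0] (.cons [12, 3, 4, 14] .nil .nil) (.cons [11, 2, 6, 0] .nil (.cons [14, 2, 6, 0] .nil (.cons [16, 2, 6, 0] (.cons [8, 2, 0, 3, 14] .nil .nil) (.cons [0, 5, 10, 0] (.cons [4, 8, 2, 0, 2] .nil .nil) (.cons [7, 5, 10, 0] (.cons [6, 3, 0, 2, 5] .nil .nil) (.cons [11, 5, 10, 0] (.cons [0, 2, 9, 2] .nil .nil) (.cons [12, 5, 10, 0] .nil (.cons [14, 5, 10, 0] (.cons [9, 3, 3, 5] .nil .nil) (.cons [0, 11, 7, 0] .nil (.cons [2, 11, 7, 0] (.cons [5, 0, 9, 2] .nil .nil) (.cons [4,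 11, 7, 0] (.cons [10, 2, 0, 2] .nil .nil) (.cons [5, 11, 7, 0] .nil (.cons [6, 11, 7, 0] (.cons [9, 6, 14] .nil .nil) (.cons [8, 11, 7, 0] .nil (.cons [0, 8, 2, 0] (.cons [2, 10, 0, 3] .nil .nil) (.cons [6, 8, 2, 0] .nil (.cons [7, 8, 2, 0] .nil (.cons [11, 8, 2, 0] .nil (.cons [12, 8, 2, 0] (.cons [9, 2, 2, 9] (.cons [0] (.leaf 22) .nil) .nil) (.cons [14, 8, 2, 0] (.cons [12, 3, 5, 3] .nil .nil) (.cons [8, 2, 11, 0] .nil (.cons [12, 2, 11, 0] .nil (.cons [14, 2, 11, 0] .nil (.cons [0, 12, 8, 0] .nil (.cons [6, 12, 8, 0] .nil (.cons [11, 12, 8, 0] (.cons [8, 3, 0, 9, 2] .nil .nil) (.cons [14, 12, 8, 0] .nil (.cons [2, 5, 8, 0] (.cons [9, 5, 2, 6] .nil .nil) (.cons [10, 5, 8, 0] .nil (.cons [0, 11, 8, 0] (.cons [3, 4, 2, 12] .nil .nil) (.cons [6, 11, 8, 0] (.cons [4, 2, 9, 2, 0, 3] .nil .nil) (.cons [7, 11, 8, 0] (.cons [2,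 10, 2, 8] .nil .nil) (.cons [4, 8, 4, 0] .nil (.cons [12, 8, 4, 0] .nil (.cons [2, 0, 10, 0] .nil (.cons [4, 0, 10, 0] (.cons [0, 9, 5, 2] .nil .nil) (.cons [5, 0, 10, 0] .nil (.cons [6, 0, 10, 0] .nil (.cons [7, 0, 10, 0] .nil (.cons [8, 0, 10, 0] (.cons [9, 3, 9] .nil .nil) (.cons [11, 0, 10, 0] (.cons [12, 3, 3, 5, 0, 2] .nil .nil) (.cons [14, 0, 10, 0] .nil (.cons [5, 7, 5, 0] (.cons [4, 14, 2, 5, 0, 3] .nil .nil) (.cons [7, 7, 5, 0] .nil (.cons [8, 7, 5, 0] (.cons [5, 12] .nil .nil) (.cons [10, 7, 5, 0] .nil (.cons [11, 7, 5, 0] .nil (.cons [14, 7, 5, 0] (.cons [0, 9, 2, 8, 3] .nil .nil) (.cons [4, 7, 10, 0] .nil (.cons [0, 4, 8, 0] .nil (.cons [4, 4, 8, 0] .nil (.cons [6, 4, 8, 0] .nil (.cons [7, 4, 8, 0] .nil (.cons [8, 4, 8, 0] .nil (.cons [14, 4, 8, 0] (.cons [5, 9] .nil .nil) (.cons [8, 16, 14, 0] .nil (.cons [11,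 16, 14, 0] .nil (.cons [4, 0, 14, 0] (.cons [2, 0, 3, 10] .nil .nil) (.cons [6, 0, 14, 0] .nil (.cons [8, 0, 14, 0] .nil (.cons [10, 0, 14, 0] (.cons [3, 8, 3, 5] .nil .nil) (.cons [12, 0, 14, 0] .nil (.cons [14, 0, 14, 0] (.cons [14, 5, 2, 9] .nil .nil) (.cons [16, 12, 11, 0] (.cons [0, 2, 2, 9] .nil .nil) (.cons [0, 4, 12, 0] .nil (.cons [2, 4, 12, 0] .nil (.cons [0, 2, 10, 0] .nil (.cons [5, 2, 10, 0] .nil (.cons [7, 2, 10, 0] (.cons [10, 5, 14] (.cons [2, 0] (.leaf 24) .nil) .nil) (.cons [12, 2, 10, 0] (.cons [10, 3, 4, 0, 3] .nil .nil) (.cons [2, 0, 2, 0] (.cons [8, 5, 2] .nil .nil) (.cons [6, 0, 2, 0] .nil (.cons [11, 0, 2, 0] .nil (.cons [16, 0, 2, 0] (.cons [12, 10] (.cons [2, 0, 2] (.leaf 26) .nil) .nil) (.cons [0, 8, 10, 0] .nil (.cons [10, 8, 10, 0] .nil (.cons [5, 14, 7, 0] (.cons [3, 4, 3] .nil .nil) (.cons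 [8, 14, 7, 0] .nil (.cons [0, 7, 8, 0] .nil (.cons [2, 7, 8, 0] (.cons [2, 4] (.cons [0, 2, 0, 2] (.leaf 28) .nil) .nil) (.cons [5, 7, 8, 0] (.cons [2, 2, 0, 4] .nil .nil) (.cons [0, 12, 6, 0] .nil (.cons [2, 12, 6, 0] .nil (.cons [6, 12, 6, 0] .nil (.cons [8, 12, 6, 0] .nil (.cons [0, 12, 14, 0] .nil (.cons [0, 6, 11, 0] .nil (.cons [2, 6, 11, 0] (.cons [8] (.cons [0, 2, 0] (.leaf 30) .nil) .nil) (.cons [5, 6, 11, 0] .nil (.cons [0, 7, 11, 0] .nil (.cons [2, 7, 11, 0] (.cons [0, 5, 3, 4, 2] .nil .nil) (.cons [14, 7, 11, 0] (.cons [0, 14, 3, 8] .nil .nil) (.cons [2, 6, 8, 0] .nil (.cons [5, 6, 8, 0] .nil (.cons [14, 6, 8, 0] (.cons [14, 2, 6, 9] .nil .nil) (.cons [10, 12, 4, 0] (.cons [5, 12] .nil .nil) (.cons [2, 4, 7, 0] (.cons [9, 3, 0, 3, 3, 4] .nil .nil) (.cons [4, 4, 7, 0] .nil (.cons [10, 4, 7, 0] (.cons [2, 2, 0,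 4] (.cons [2, 0] (.leaf 32) .nil) .nil) (.cons [2, 6, 10, 0] .nil (.cons [5, 6, 10, 0] .nil (.cons [4, 14, 11, 0] (.cons [6, 3, 0, 3] .nil .nil) (.cons [0, 16, 7, 0] (.cons [2, 2, 0] (.cons [0, 2, 0, 2] (.leaf 34) .nil) .nil) (.cons [2, 16, 7, 0] .nil (.cons [5, 16, 7, 0] (.cons [2, 8, 2, 0, 2] .nil .nil) (.cons [7, 16, 7, 0] .nil (.cons [12, 16, 7, 0] .nil (.cons [0, 6, 12, 0] (.cons [8, 3, 14] .nil .nil) (.cons [6, 2, 7, 0] .nil (.cons [8, 2, 7, 0] .nil (.cons [2, 0, 5, 0] (.cons [0, 2, 8, 3] .nil .nil) (.cons [4, 0, 5, 0] (.cons [9, 3, 5, 0, 2] .nil .nil) (.cons [5, 0, 5, 0] (.cons [9, 2, 0, 2, 10] .nil .nil) (.cons [11, 0, 5, 0] (.cons [9, 3, 0, 3, 3, 4] .nil .nil) (.cons [12, 0, 5, 0] .nil (.cons [14, 0, 5, 0] .nil (.cons [0, 16, 8, 0] (.cons [5, 2, 5, 0, 3] .nil .nil) (.cons [10, 16, 8, 0] (.cons [14, 3, 5, 12] .nil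 .nil) (.cons [2, 16, 6, 0] (.cons [9, 4, 3, 10] .nil .nil) (.cons [10, 16, 6, 0] (.cons [9, 2, 0] (.cons [0, 2, 0, 2] (.leaf 36) .nil) .nil) (.cons [0, 2, 12, 0] .nil (.cons [4, 2, 12, 0] (.cons [3, 0, 5, 2, 0, 2] .nil .nil) (.cons [5, 0, 4, 0] .nil (.cons [6, 0, 4, 0] .nil (.cons [8, 0, 4, 0] .nil (.cons [12, 0, 4, 0] .nil (.cons [14, 0, 4, 0] .nil (.cons [0, 6, 6, 0] .nil (.cons [4, 6, 6, 0] .nil (.cons [2, 4, 11, 0] .nil (.cons [6, 4, 11, 0] (.cons [5, 3, 5, 3] .nil .nil) (.cons [7, 4, 11, 0] (.cons [9, 2, 0, 3, 14] .nil .nil) (.cons [8, 4, 11, 0] .nil (.cons [10, 4, 11, 0] .nil (.cons [12, 4, 11, 0] (.cons [12, 5, 3] .nil .nil) (.cons [0, 11, 4, 0] (.cons [0, 2, 5, 14] .nil .nil) (.cons [11, 11, 4, 0] .nil (.cons [0, 4, 6, 0] .nil (.cons [0, 10, 4, 0] (.cons [2, 4, 0] .nil .nil) (.cons [6, 10, 4, 0] (.cons [4, 3, 14]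 .nil .nil) (.cons [7, 10, 4, 0] (.cons [3, 4, 8] .nil .nil) (.cons [0, 5, 11, 0] .nil (.cons [8, 5, 11, 0] (.cons [3, 5, 2, 0, 10, 3] .nil .nil) (.cons [0, 6, 5, 0] .nil (.cons [10, 6, 5, 0] .nil (.cons [10, 8, 5, 0] (.cons [2, 9, 5, 2] .nil .nil) (.cons [0, 12, 10, 0] (.cons [10, 2, 0] .nil .nil) (.cons [0, 12, 2, 0] .nil (.cons [5, 12, 2, 0] (.cons [5] .nil .nil) (.cons [7, 12, 2, 0] (.cons [6, 8, 3, 4, 0, 3] (.cons [2, 0, 2] (.leaf 38) .nil) .nil) (.cons [14, 12, 2, 0] .nil (.cons [7, 5, 2, 0] (.cons [5, 0, 3, 10] .nil .nil) (.cons [10, 5, 2, 0] .nil (.cons [12, 5, 2, 0] .nil (.cons [14, 5, 2, 0] .nil (.cons [4, 10, 6, 0] .nil (.cons [0, 12, 5, 0] .nil (.cons [2, 12, 5, 0] .nil (.cons [0, 14, 10, 0] .nil (.cons [4, 14, 10, 0] (.cons [3, 5, 2, 0, 10, 3] .nil .nil) (.cons [0, 14, 6, 0] (.cons [12] .nil .nil) (.cons [0,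 2, 16, 0] .nil (.cons [4, 2, 16, 0] (.cons [4, 2, 0, 8, 3] .nil .nil) (.cons [5, 2, 16, 0] (.cons [0, 3, 10] .nil .nil) (.cons [4, 7, 2, 0] (.cons [4, 2, 6, 4] .nil .nil) (.cons [11, 7, 2, 0] (.cons [6, 3, 4, 14] .nil .nil) (.cons [0, 10, 8, 0] .nil (.cons [6, 10, 5, 0] .nil (.cons [10, 10, 5, 0] .nil (.cons [5, 11, 5, 0] (.cons [14, 2, 0] .nil .nil) (.cons [2, 5, 7, 0] (.cons [3, 3, 3] .nil .nil) (.cons [7, 5, 7, 0] .nil (.cons [11, 5, 7, 0] (.cons [5, 3, 5, 2] .nil .nil) (.cons [2, 0, 6, 0] (.cons [2, 4, 9] .nil .nil) (.cons [7, 0, 6, 0] .nil (.cons [0, 14, 2, 0] .nil (.cons [4, 14, 2, 0] (.cons [9, 0, 2, 10, 0, 2] .nil .nil) (.cons [6, 4, 2, 0] .nil (.cons [10, 4, 2, 0] .nil (.cons [0, 6, 2, 0] .nil (.cons [4, 6, 2, 0] (.cons [8, 3, 4, 0, 3] .nil .nil) (.cons [5, 6, 2, 0] .nil (.cons [7, 4, 10, 0] (.cons [3, 0, 5] .nil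 .nil) (.cons [0, 16, 11, 0] (.cons [6, 2, 8] .nil .nil) (.cons [2, 0, 8, 0] (.cons [12, 3, 0, 3] .nil .nil) (.cons [4, 0, 8, 0] .nil (.cons [5, 0, 8, 0] (.cons [3, 3, 3, 4] .nil .nil) (.cons [10, 0, 8, 0] .nil (.cons [2, 0, 11, 0] .nil (.cons [4, 0, 11, 0] (.cons [3, 9, 3, 5] .nil .nil) (.cons [5, 0, 11, 0] (.cons [5, 2, 8, 2] .nil .nil) (.cons [8, 0, 11, 0] .nil (.cons [11, 0, 11, 0] (.cons [9, 0, 3, 3, 5] (.cons [0, 2, 0, 2] (.leaf 40) .nil) .nil) (.cons [12, 0, 11, 0] (.cons [10, 3, 3, 5, 0, 2] .nil .nil) (.cons [0, 14, 8, 0] (.cons [3, 0, 10, 9, 2] .nil .nil) (.cons [0, 5, 5, 0] .nil (.cons [10, 5, 5, 0] .nil (.cons [4, 11, 12, 0] .nil (.cons [0, 12, 7, 0] .nil (.cons [2, 0, 2, 11, 0] (.cons [0, 2, 5, 8] (.cons [2, 0] (.leaf 42) .nil) .nil) (.cons [4, 0, 2, 11, 0] (.cons [5, 12] .nil .nil) (.cons [10, 0, 2, 11, 0] .nil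 (.cons [2, 7, 0, 16, 0] .nil (.cons [2, 5, 0, 16, 0] (.cons [0, 3] .nil .nil) (.cons [8, 4, 0, 16, 0] .nil (.cons [0, 8, 0, 16, 0] (.cons [14, 0, 2, 5] (.cons [2, 0, 2, 0] (.leaf 44) .nil) .nil) (.cons [2, 8, 0, 16, 0] .nil (.cons [2, 0, 4, 10, 0] .nil (.cons [5, 0, 8, 11, 0] (.cons [2, 9, 10, 2] .nil .nil) (.cons [11, 0, 8, 11, 0] (.cons [2, 2, 5, 0, 3] .nil .nil) (.cons [2, 0, 6, 8, 0] .nil (.cons [5, 0, 6, 8, 0] (.cons [5, 2, 6, 4] .nil .nil) (.cons [8, 0, 6, 8, 0] (.cons [14, 3, 0, 2, 5] (.cons [] (.leaf 46) .nil) .nil) (.cons [4, 4, 0, 4, 0] (.cons [5, 3, 0, 4, 2] (.cons [2, 0, 2] (.leaf 48) .nil) .nil) (.cons [10, 4, 0, 4, 0] (.cons [2, 8, 8] .nil .nil) (.cons [0, 12, 0, 11, 0] .nil (.cons [4, 12, 0, 11, 0] .nil (.cons [6, 12, 0, 11, 0] .nil (.cons [6, 0, 2, 5, 0] (.cons [12, 0, 5, 2] .nil .nil) (.cons [8, 0, 2, 5,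 0] (.cons [0, 2, 2, 4] .nil .nil) (.cons [12, 0, 2, 5, 0] (.cons [10, 2, 6, 4] .nil .nil) (.cons [8, 14, 0, 10, 0] .nil (.cons [11, 14, 0, 10, 0] (.cons [4, 2, 5, 0, 3] .nil .nil) (.cons [8, 11, 0, 10, 0] (.cons [2, 8, 3, 0, 3] .nil .nil) (.cons [5, 12, 0, 4, 0] (.cons [2, 0, 3, 9] .nil .nil) (.cons [7, 12, 0, 4, 0] .nil (.cons [11, 12, 0, 4, 0] (.cons [5, 5, 2, 6] .nil .nil) (.cons [14, 12, 0, 4, 0] .nil (.cons [4, 16, 10, 10, 0] (.cons [2, 2, 0, 9, 2] .nil .nil) (.cons [2, 12, 4, 11, 0] .nil (.cons [8, 12, 4, 11, 0] (.cons [4, 8, 2, 0, 2] .nil .nil) (.cons [11, 12, 4, 11, 0] .nil (.cons [2, 4, 11, 12, 0] .nil (.cons [6, 4, 11, 12, 0] (.cons [4, 3, 14] .nil .nil) (.cons [7, 4, 11, 12, 0] .nil (.cons [7, 4, 14, 11, 0] (.cons [5, 10] .nil .nil) (.cons [16, 4, 14, 11, 0] .nil (.cons [4, 8, 5, 11, 0] (.cons [3, 0, 3, 5, 10]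 .nil .nil) (.cons [6, 8, 5, 11, 0] (.cons [0, 2, 6, 4] .nil .nil) (.cons [4, 16, 0, 12, 0] (.cons [2, 4, 9, 2] .nil .nil) (.cons [0, 12, 5, 8, 0] .nil (.cons [4, 12, 5, 8, 0] (.cons [8, 2, 5] .nil .nil) (.cons [0, 7, 10, 4, 0] .nil (.cons [2, 7, 10, 4, 0] .nil (.cons [5, 6, 4, 7, 0] .nil (.cons [5, 10, 10, 5, 0] (.cons [8, 0, 5, 3] .nil .nil) (.cons [5, 7, 4, 4, 0] (.cons [3, 9, 3, 5] .nil .nil) (.cons [8, 7, 4, 4, 0] (.cons [9, 2, 9, 2, 0, 3] .nil .nil) (.cons [10, 7, 4, 4, 0] .nil (.cons [14, 7, 4, 4, 0] (.cons [0, 4, 9, 2] .nil .nil) (.cons [2, 5, 5, 6, 0] .nil (.cons [7, 5, 5, 6, 0] .nil (.cons [8, 5, 5, 6, 0] (.cons [3, 5, 2, 9] .nil .nil) (.cons [5, 5, 7, 10, 0] .nil (.cons [14, 5, 7, 10, 0] .nil (.cons [5, 2, 10, 10, 0] (.cons [4, 6, 0, 2] .nil .nil) (.cons [14, 2, 10, 10, 0] (.cons [2, 8, 5, 2] .nil .nil) (.cons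 [8, 14, 12, 2, 0] (.cons [4, 3, 3, 0, 9, 2] .nil .nil) (.cons [4, 0, 8, 4, 0] .nil (.cons [6, 0, 8, 4, 0] (.cons [2, 9, 3, 0, 3] .nil .nil) (.cons [7, 0, 8, 4, 0] (.cons [12, 8, 0, 3, 3, 4] .nil .nil) (.cons [10, 0, 8, 4, 0] .nil (.cons [11, 0, 8, 4, 0] .nil (.cons [16, 0, 8, 4, 0] .nil (.cons [2, 6, 0, 8, 0] (.cons [4, 2, 2, 10, 4] .nil .nil) (.cons [8, 6, 0, 8, 0] (.cons [9, 2, 2, 9] .nil .nil) (.cons [11, 6, 0, 8, 0] .nil (.cons [8, 7, 4, 2, 0] .nil (.cons [10, 7, 4, 2, 0] .nil (.cons [14, 2, 5, 6, 0] .nil (.cons [4, 2, 10, 12, 0] (.cons [14, 4, 9, 2] .nil .nil) (.cons [5, 2, 10, 12, 0] (.cons [12, 4, 0, 3] .nil .nil) (.cons [16, 2, 10, 12, 0] .nil (.cons [11, 7, 16, 2, 0] .nil (.cons [14, 7, 16, 2, 0] (.cons [8, 0, 5, 3] .nil .nil) (.cons [0, 14, 0, 8, 0] .nil (.cons [5, 14, 0, 8, 0] .nil (.cons [10, 14, 0, 8, 0] (.cons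 [9, 3, 3, 0, 2, 5] .nil .nil) (.cons [14, 11, 5, 2, 0] (.cons [3, 8, 3, 5] .nil .nil) (.cons [0, 8, 0, 5, 0] (.cons [0, 10, 3] (.cons [0, 2, 0, 2] (.leaf 50) .nil) .nil) (.cons [4, 8, 0, 5, 0] (.cons [9, 3, 0, 5, 3] .nil .nil) (.cons [2, 0, 4, 6, 0] (.cons [3, 5, 2, 8] .nil .nil) (.cons [6, 0, 4, 6, 0] (.cons [9, 0, 3, 3, 4] .nil .nil) (.cons [7, 0, 4, 6, 0] (.cons [14, 5, 8] .nil .nil) (.cons [12, 0, 4, 6, 0] (.cons [3, 3, 5] .nil .nil) (.cons [14, 0, 4, 6, 0] (.cons [2, 0, 2, 5, 0, 3] .nil .nil) (.cons [16, 0, 4, 6, 0] (.cons [3, 4, 2] .nil .nil) (.cons [10, 8, 0, 4, 0] (.cons [4, 2, 12] .nil .nil) (.cons [11, 8, 0, 4, 0] .nil (.cons [0, 16, 4, 4, 0] (.cons [9, 3, 3, 0, 8, 2] .nil .nil) (.cons [10, 16, 4, 4, 0] .nil (.cons [4, 16, 10, 7, 0] .nil (.cons [14, 16, 10, 7, 0] (.cons [10, 0, 3, 9] .nil .nil) (.cons [5, 11, 7,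 4, 0] (.cons [12, 3, 14] (.cons [2, 0, 2] (.leaf 52) .nil) .nil) (.cons [0, 5, 11, 7, 0] (.cons [2, 5, 8, 4] .nil .nil) (.cons [4, 2, 16, 14, 0] (.cons [14, 0, 3, 5, 0, 2] .nil .nil) (.cons [10, 2, 16, 14, 0] .nil (.cons [11, 2, 16, 14, 0] .nil (.cons [10, 0, 16, 7, 0] .nil (.cons [12, 0, 16, 7, 0] (.cons [10] .nil .nil) (.cons [4, 4, 2, 6, 0] (.cons [9, 2, 0, 3] .nil .nil) (.cons [14, 4, 2, 6, 0] (.cons [0, 2, 0] .nil .nil) (.cons [16, 4, 2, 6, 0] .nil (.cons [4, 2, 0, 14, 0] .nil (.cons [6, 2, 0, 14, 0] .nil (.cons [0, 2, 12, 11, 0] (.cons [4, 2, 5, 0, 3] .nil .nil) (.cons [16, 7, 12, 2, 0] (.cons [9, 2, 8, 3] (.cons [0, 2, 0, 2] (.leaf 54) .nil) .nil) (.cons [2, 4, 6, 2, 0] (.cons [8, 10] .nil .nil) (.cons [8, 4, 6, 2, 0] (.cons [6, 3, 0, 2, 5] .nil .nil) (.cons [14, 0, 6, 2, 0] .nil (.cons [2, 0, 10, 4, 0] .nil (.cons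 [5, 0, 10, 4, 0] .nil (.cons [12, 0, 10, 4, 0] .nil (.cons [0, 5, 16, 10, 0] .nil (.cons [0, 4, 7, 11, 0] (.cons [9, 2, 0, 3] .nil .nil) (.cons [4, 4, 7, 11, 0] .nil (.cons [14, 4, 7, 11, 0] .nil (.cons [6, 0, 14, 8, 0] (.cons [10, 9] .nil .nil) (.cons [12, 0, 14, 8, 0] (.cons [3, 5, 2, 9] .nil .nil) (.cons [5, 11, 0, 11, 0] .nil (.cons [0, 8, 16, 14, 0] .nil (.cons [4, 8, 5, 6, 0] .nil (.cons [2, 10, 5, 7, 0] (.cons [12, 3, 0, 3] .nil .nil) (.cons [6, 10, 5, 7, 0] (.cons [6, 9, 2] .nil .nil) (.cons [7, 11, 16, 12, 0] .nil (.cons [5, 12, 5, 2, 0] .nil (.cons [14, 12, 5, 2, 0] .nil (.cons [5, 2, 6, 8, 0] .nil (.cons [6, 0, 16, 8, 0] (.cons [10, 2, 6, 4] .nil .nil) (.cons [7, 0, 16, 8, 0] .nil (.cons [16, 0, 16, 8, 0] (.cons [3, 6, 4, 0, 3] .nil .nil) (.cons [6, 0, 2, 16, 0] .nil (.cons [5, 0, 10, 8, 0] (.cons [5, 2, 0, 3,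 10] .nil .nil) (.cons [6, 5, 0, 2, 0] .nil (.cons [0, 7, 0, 5, 0] (.cons [3, 0, 3, 9] (.cons [2, 0] (.leaf 56) .nil) .nil) (.cons [7, 7, 0, 5, 0] .nil (.cons [4, 0, 4, 12, 0] (.cons [8, 2, 8, 3, 0, 2] .nil .nil) (.cons [6, 0, 4, 12, 0] .nil (.cons [7, 0, 4, 12, 0] (.cons [5, 3, 5, 3, 0, 2] (.cons [2, 0] (.leaf 58) .nil) .nil) (.cons [11, 5, 0, 4, 0] .nil (.cons [0, 4, 0, 11, 0] (.cons [8] (.cons [2, 0, 2] (.leaf 60) .nil) .nil) (.cons [4, 4, 0, 11, 0] .nil (.cons [2, 4, 14, 10, 0] (.cons [2, 9, 5, 3] .nil .nil) (.cons [0, 4, 8, 4, 0] .nil (.cons [7, 4, 4, 8, 0] (.cons [4, 8, 2, 0, 2] .nil .nil) (.cons [14, 7, 16, 10, 0] (.cons [8, 2, 0, 2] .nil .nil) (.cons [0, 16, 11, 6, 0] (.cons [9, 6, 3, 0, 2] .nil .nil) (.cons [6, 11, 16, 14, 0] (.cons [8, 3, 0, 3] (.cons [2, 0, 2] (.leaf 62) .nil) .nil) (.cons [6, 11, 4, 4, 0] (.cons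 [0, 4, 3] .nil .nil) (.cons [12, 11, 4, 4, 0] .nil (.cons [2, 4, 6, 4, 0] .nil (.cons [0, 4, 2, 16, 0] (.cons [2, 8, 3, 4] .nil .nil) (.cons [2, 8, 4, 2, 0] .nil (.cons [10, 8, 4, 2, 0] .nil (.cons [12, 4, 7, 2, 0] (.cons [5, 2, 0, 10, 3] .nil .nil) (.cons [10, 6, 0, 11, 0] (.cons [10, 3, 6, 4] .nil .nil) (.cons [10, 8, 4, 10, 0] (.cons [5, 2, 0, 3, 8] .nil .nil) (.cons [6, 4, 11, 6, 0] .nil (.cons [0, 8, 16, 2, 0] .nil (.cons [12, 8, 16, 2, 0] (.cons [0, 14] .nil .nil) (.cons [11, 0, 5, 5, 0] .nil (.cons [16, 0, 5, 5, 0] .nil (.cons [6, 4, 12, 2, 0] (.cons [3, 0, 3, 10] .nil .nil) (.cons [0, 10, 16, 2, 0] (.cons [4, 3, 10] .nil .nil) (.cons [5, 2, 10, 7, 0] .nil (.cons [12, 0, 2, 12, 0] (.cons [10, 4] .nil .nil) (.cons [11, 16, 0, 2, 0] (.cons [2, 4, 8, 2, 0, 2] .nil .nil) (.cons [4, 10, 0, 2, 0] (.cons [14, 3, 8, 8] .nil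 .nil) (.cons [10, 0, 6, 5, 0] (.cons [14, 2, 0, 8, 2] .nil .nil) (.cons [0, 12, 2, 5, 0] (.cons [0, 5, 3, 3, 9] (.cons [0] (.leaf 64) .nil) .nil) (.cons [10, 7, 4, 10, 0] .nil (.cons [5, 7, 8, 2, 0] .nil (.cons [4, 0, 7, 8, 0] (.cons [2, 2, 0] (.cons [2, 0, 2, 0, 2] (.leaf 66) .nil) .nil) (.cons [0, 7, 5, 10, 0] .nil (.cons [0, 6, 16, 14, 0] (.cons [0, 3, 3, 0] (.cons [] (.leaf 68) .nil) .nil) (.cons [5, 5, 2, 10, 0] .nil (.cons [7, 0, 8, 5, 0] .nil (.cons [5, 2, 6, 10, 0] .nil (.cons [12, 10, 4, 2, 0] (.cons [5, 10] .nil .nil) (.cons [16, 7, 5, 7, 0] .nil (.cons [0, 5, 2, 16, 0] (.cons [8, 12, 3, 4] .nil .nil) (.cons [0, 12, 6, 4, 0] .nil (.cons [0, 14, 16, 5, 0] (.cons [14, 3, 3, 4] .nil .nil) (.cons [12, 4, 0, 8, 0] (.cons [2, 2, 6, 9] .nil .nil) (.cons [4, 0, 16, 10, 0] (.cons [9, 2, 9, 2, 0, 3] .nil .nil) (.cons [11,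 8, 5, 2, 0] (.cons [8] .nil .nil) (.cons [6, 0, 2, 7, 0] (.cons [5, 2, 0, 4] .nil .nil) (.cons [10, 0, 2, 7, 0] (.cons [2, 0, 10, 3] .nil .nil) (.cons [14, 0, 12, 8, 0] (.cons [4, 0, 14, 3, 9] .nil .nil) (.cons [14, 0, 7, 5, 2, 0] (.cons [9, 3, 4, 3, 0, 2] .nil .nil) .nil)))))))))))))))))))))))))))))))))))))))))))))))))))))))))))))))))))))))))))))))))))))))))))))))))))))))))))))))))))))))))))))))))))))))))))))))))))))))))))))))))))))))))))))))))))))))))))))))))))))))))))))))))))))))))))))))))))))))))))))))))))))))))))))))))))))))))))))))))))))))))))))))))))))))))))))))))))))))))))))))))))))))))))))))))))))))))))))))))))))))))))))))))))))))))))))))))))))))))))))))))))))))))))))))))))))))))))))))))))))))))))))))))))))))))))))))))))))))))))))))))))))))))))))))))))))))))))))))))))))))))))))))))))))))))))))))))))))))))))))))))))))))))))))))))))))))))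 (⟨cb_l0.b, cb_l0.S, [], cb_R0, 0⟩ :: cb_tl) (0 :: cb_lk) Pd.nil 0 = true := by decide +kernel
theorem cb_sound {G : Type*} [Group G] {φ : G →* Equiv.Perm ℕ} {γ : ℕ → G}
    (M : Model φ γ 11 x_ns x_ts) : ChainSound φ (gp γ [0, 2, 4, 6, 8, 10, 12, 14, 16, 18, 20, 22, 24, 26, 28, 30]) 11 [] cb_ls :=
  ⟨Level.ok_sound' M cb_l0_ok,
   Level.ok_sound' M cb_l1_ok,
   Level.okT_sound M cb_l2_ok, trivial⟩
theorem cb_cent {G : Type*} [Group G] {φ : G →* Equiv.Perm ℕ} {γ : ℕ → G}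
    (C : Cert φ γ 11 x_ns x_ts [0, 2, 4, 6, 8, 10, 12, 14, 16, 18, 20, 22, 24, 26, 28, 30] c2_ls) : Cent γ cb_S.u cb_S.Cl 2 :=
  have X := (C.rechain (cb_sound C.M) (by decide +kernel)).exact
  have A := Srch.auxB_sound (S := cb_S) C.M (K := ⊤) le_top rfl cb_aux
  have F := fun {tr : Tr} {R : ℕ} => Srch.found_of_run (S := cb_S) C.M C.base (by decide +kernel) X A (tr := tr) (R := R)
  Cent.of_found (S := cb_S) C.M X rfl (F cb_r0) cb_cov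

end Cfsg.Agent.TitsQ
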