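import Cfsg.Agent.TitsQ.Ext

set_option autoImplicit false
set_option Elab.async false
set_option maxRecDepth 100000
set_option linter.all false

namespace Cfsg.Agent.TitsQ
open Cfsg.Agent.CGT

open Cfsg.Agent.Inv

noncomputable def cc_l0 : Level := ⟨295, [[0], [2], [4], [6], [8], [10], [12], [14], [16]], [0, 1, 2, 3, 4, 7, 8, 0, 5, 2, 1, 0, 6, 3, 0], 0x7ffffffffffffffffffffffffffffffffffffffffffffffffffffffffffffffffffffffffffffffffffffffffffffffffffffffffffffffffffffffffffffffffffffffffffffffffffffffffffffffffffffffffffffffffffffffffffffffffffffffffffffffffffffffffffffffffffffffffffffffffffffffffffffffffffffffffffffffffffffffffffffffffffffffffffffffffffffffffffffffffffffffffffffffffffffffffffffffffffffffffffffffffffffffffffffffffffffffffffffffffffffffffffffffffffffffffffffffffffffff, 1755⟩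
noncomputable def cc_l1 : Level := ⟨455, [[12, 0, 5, 0, 11, 0, 8, 16], [4, 7, 2, 4, 2, 0, 5, 6, 16]], [], 0x100000000000000000000000000000000000000400000000000000000000000000000000000000000000000000000000000000000000000000000000000000000002000000000000000000000000000000000000000000000000000000000000000000000008000000000000004000000000000000000004000000000000000000000800000000001000000000000000000000004000000000000800000000000000000000000000000000000000000000000000000000000000000000000000000000000000000000000000000000000000000, 10⟩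
noncomputable def cc_l2 : Level := ⟨879, [[0, 2, 6, 4, 4, 11, 14], [0, 5, 2, 5, 6, 4, 8, 16]], [], 0x100000000000000000000000000000000000000400000000000000000000000000000000000000000000000000000000000000000000000000000000000000000002000000000000000000000000000000000000000000000000000000000000000000000008000000000000004000000000000000000004000000000000000000000000000000001000000000000000000000004000000000000000000000000000000000000000000000000000000000000000000000000000000000000000000000000000000000000000000000000000000, 8⟩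
noncomputable def cc_l3 : Level := ⟨734, [[14, 5, 0, 5, 2, 6, 0, 8]], [], 0x4000000000000000000000000000000000000000000000000000000004000000000000000000000000000000000000000000000000000000000000000000000000000000000000000000000000000000000000000000000000000000, 2⟩
noncomputable def cc_l4 : Level := ⟨818, [[14, 5, 2, 6, 0, 10, 5, 2, 4, 6]], [], 0x4000000000000000000000000000000000000000000000000000001000000000000000000000000000000000000000000000000000000000000000000000000000000000000000000000000000000000000000000000000000000000000000000000000000000, 2⟩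
noncomputable def cc_l5 : Level := ⟨1534, [], [], 0x400000000000000000000000000000000000000000000000000000000000000000000000000000000000000000000000000000000000000000000000000000000000000000000000000000000000000000000000000000000000000000000000000000000000000000000000000000000000000000000000000000000000000000000000000000000000000000000000000000000000000000000000000000000000000000000000000000000000000000000000000000000000000000000000, 1⟩
noncomputable def cc_l6 : Level := ⟨10, [[10, 12, 4, 0, 11, 0, 10, 12], [6, 16, 4, 4, 0, 5, 6, 4, 8]], [], 0x1000000000000000000000008000000000000000000000000000000000000000000000000080000000000000000000000000000000000000000000000000000000000000000000000000000000000000400, 4⟩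
noncomputable def cc_l7 : Level := ⟨310, [[7, 0, 2, 11, 0, 2, 5, 14], [4, 4, 2, 6, 4, 4, 6, 11, 14]], [], 0x2000000000000000000000000000000000000000000000000000000000000000200000000000000000000000000000000000000000000000000000000000000000000000000000000000000000000000000000000000000000000000000000000000000000400000000000000000000000000000000000000000000000000000000000100000000000000000, 4⟩
noncomputable def cc_l8 : Level := ⟨1264, [], [], 0x10000000000000000000000000000000000000000000000000000000000000000000000000000000000000000000000000000000000000000000000000000000000000000000000000000000000000000000000000000000000000000000000000000000000000000000000000000000000000000000000000000000000000000000000000000000000000000000000000000000000000000000000000000, 1⟩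
noncomputable def cc_l9 : Level := ⟨1511, [], [], 0x800000000000000000000000000000000000000000000000000000000000000000000000000000000000000000000000000000000000000000000000000000000000000000000000000000000000000000000000000000000000000000000000000000000000000000000000000000000000000000000000000000000000000000000000000000000000000000000000000000000000000000000000000000000000000000000000000000000000000000000000000000000000000000, 1⟩
noncomputable def cc_l10 : Level := ⟨1608, [], [], 0x1000000000000000000000000000000000000000000000000000000000000000000000000000000000000000000000000000000000000000000000000000000000000000000000000000000000000000000000000000000000000000000000000000000000000000000000000000000000000000000000000000000000000000000000000000000000000000000000000000000000000000000000000000000000000000000000000000000000000000000000000000000000000000000000000000000000000000000, 1⟩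
noncomputable def cc_l11 : Level := ⟨0, [[14, 4, 11, 16, 0, 2, 0, 10, 5, 14, 16]], [], 0x20000000000000000000000000000000000000000000000000000000000000000000000000000000000000000000000000000000000000000000000000000000000000000000000000000000000000000001, 2⟩
noncomputable def cc_ls : List Level := [cc_l0, cc_l1, cc_l2, cc_l3, cc_l4, cc_l5, cc_l6, cc_l7, cc_l8, cc_l9, cc_l10, cc_l11]
noncomputable def cc_S : Srch := ⟨11, x_ts, (chainBase [] c2_ls), [26], [26], [[4, 11, 14, 16, 0, 2, 0, 10, 5, 14, 16], [14, 2, 0, 6, 5, 0, 6, 4, 2, 10, 8, 12], [12, 6, 2, 0, 6, 2, 0, 5, 6, 10], [0, 12, 4, 0, 6, 0, 8, 0, 10, 5, 16], [16, 12, 0, 2, 5, 8, 0, 11, 8], [16, 0, 7, 2, 10, 0, 2, 4, 4, 12, 14, 16], [2, 7, 0, 8, 2, 0, 4, 10, 12], [4, 11, 0, 4, 11, 4, 11, 0, 6, 4, 11], [7, 16, 0, 6, 11, 0, 2, 4, 12, 14, 16], [11, 14, 0, 12, 8, 6, 0, 8, 4, 0, 2], [0, 4, 0, 10, 0, 4, 11, 8, 12, 16], [11, 0, 14, 0, 10, 5, 2, 10, 14], [10, 5, 14, 8, 0, 8, 5, 0, 2, 6, 4], [0, 14, 6, 0, 10, 5,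 2, 12, 16], [4, 2, 12, 11, 0, 6, 4, 4, 2, 5, 8], [2, 16, 0, 8, 16, 10, 0, 6, 4, 8, 16], [11, 2, 5, 0, 14, 10, 0, 2, 10, 14, 16], [0, 11, 5, 0, 11, 0, 4, 11, 8, 12], [6, 10, 0, 6, 2, 0, 4, 2, 5, 10, 16], [0, 7, 0, 4, 12, 16, 7, 11, 0, 8, 12, 16], [5, 2, 16, 4, 8, 4, 0, 2, 11], [2, 11, 0, 4, 4, 2, 4, 11, 11], [4, 4, 4, 11, 0, 10, 12, 0, 5, 8, 12], [10, 0, 4, 11, 0, 6, 4, 6, 8, 11, 11], [16, 0, 12, 6, 2, 0, 5, 6, 8, 12, 16], [16, 11, 0, 2, 10, 10, 0, 10, 16], [6, 8, 4, 4, 2, 0, 6, 8], [16, 11, 0, 7, 0, 4, 10, 7, 0, 2, 6], [5, 7, 2, 0, 4, 2, 5, 6, 16], [7, 5, 2, 12, 0, 4, 2, 11, 11], [12, 16, 2, 0, 5, 6, 4, 2, 4], [7, 8, 0, 2, 4, 4, 6, 11, 11, 14, 16], [7, 2, 4, 12, 0, 4, 2, 14], [4, 0, 5, 6, 0, 2, 5, 6, 4, 10, 12, 14, 16], [8, 0, 5, 11, 0, 2, 4, 4, 6, 10, 16], [5, 8, 0, 11, 11, 4, 0, 10, 5, 6], [2, 14, 5, 0, 6, 2, 0, 6, 4, 2, 10, 5, 16], [2, 0, 8, 12, 0, 4, 0, 2, 4, 4, 6], [5, 10, 7, 5, 0, 2, 6, 4, 11, 16], [10, 12, 0, 16, 8, 0, 4, 2, 10, 5, 10, 16], [16, 5,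 2, 5, 0, 4, 0, 4, 4, 2, 5], [5, 6, 4, 4, 0, 2, 4, 14], [7, 0, 16, 0, 5, 2, 5, 6, 11], [0, 12, 0, 16, 7, 0, 11, 14, 16], [5, 16, 2, 0, 5, 2, 5, 6, 12], [8, 6, 4, 0, 4, 10, 7, 0, 4, 8, 16], [7, 2, 10, 0, 10, 5, 6, 8, 14], [4, 12, 0, 12, 2, 0, 4, 2, 6, 11, 12], [14, 6, 8, 0, 5, 0, 6, 4, 4, 11, 14, 16]]⟩
noncomputable def cc_lk : List ℕ := [0, 456, 880, 735, 819, 0, 11, 311, 1265, 1512, 0]
noncomputable def cc_tl : List Level := [cc_l1, cc_l2, cc_l3, cc_l4, cc_l5, cc_l6, cc_l7, cc_l8, cc_l9, cc_l10, cc_l11]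
noncomputable def cc_R0 : ℕ := 0x10000000000000000000000000000000000000000000000000000000000000000000000000000000000000000000000000000000000000000000000400010000000000000000000004000000000000000000000000000000000000000000000000000000080000000000000000000000000000000000000000000000000000000000000000000000000
theorem cc_l0_ok : (ptsOK 11 [] && (wordsIn [0, 2, 4, 6, 8, 10, 12, 14, 16, 18, 20, 22, 24, 26, 28, 30] cc_l0.S && cc_l0.ok 11 x_ns x_ts [])) = true := by decide +kernel
theorem cc_l1_ok : cc_l1.okT 11 x_ts [0, 2, 4, 6, 8, 10, 12, 14, 16, 18, 20, 22, 24, 26, 28, 30] [295] (.cons [0] (.cons [2] (.cons [0] (.cons [2] .nil .nil) .nil) .nil) (.cons [3] (.cons [0] (.cons [2] .nil (.cons [3] .nil .nil)) (.cons [3] .nil .nil)) .nil)) = true := by decide +kernel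
theorem cc_l2_ok : cc_l2.okT 11 x_ts [0, 2, 4, 6, 8, 10, 12, 14, 16, 18, 20, 22, 24, 26, 28, 30] [455, 295] (.cons [0] (.cons [2] .nil (.cons [3] (.cons [3] .nil .nil) .nil)) (.cons [2] .nil (.cons [3] (.cons [3] .nil .nil) .nil))) = true := by decide +kernel
theorem cc_l3_ok : cc_l3.okT 11 x_ts [0, 2, 4, 6, 8, 10, 12, 14, 16, 18, 20, 22, 24, 26, 28, 30] [879, 455, 295] (.cons [0] .nil .nil) = true := by decide +kernel
theorem cc_l4_ok : cc_l4.okT 11 x_ts [0, 2, 4, 6, 8, 10, 12, 14, 16, 18, 20, 22, 24, 26, 28, 30] [734, 879, 455, 295] (.cons [0] .nil .nil) = true := by decide +kernel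
theorem cc_l5_ok : (ptsOK 11 [818, 734, 879, 455, 295] && (wordsIn [0, 2, 4, 6, 8, 10, 12, 14, 16, 18, 20, 22, 24, 26, 28, 30] cc_l5.S && cc_l5.ok 11 x_ns x_ts [818, 734, 879, 455, 295])) = true := by decide +kernel
theorem cc_l6_ok : cc_l6.okT 11 x_ts [0, 2, 4, 6, 8, 10, 12, 14, 16, 18, 20, 22, 24, 26, 28, 30] [1534, 818, 734, 879, 455, 295] (.cons [0] (.cons [2] .nil .nil) (.cons [2] .nil .nil)) = true := by decide +kernel
theorem cc_l7_ok : cc_l7.okT 11 x_ts [0, 2, 4, 6, 8, 10, 12, 14, 16, 18, 20, 22, 24, 26, 28, 30] [10, 1534, 818, 734, 879, 455, 295] (.cons [0] (.cons [2] .nil .nil) (.cons [2] .nil .nil)) = true := by decide +kernel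
theorem cc_l8_ok : (ptsOK 11 [310, 10, 1534, 818, 734, 879, 455, 295] && (wordsIn [0, 2, 4, 6, 8, 10, 12, 14, 16, 18, 20, 22, 24, 26, 28, 30] cc_l8.S && cc_l8.ok 11 x_ns x_ts [310, 10, 1534, 818, 734, 879, 455, 295])) = true := by decide +kernel
theorem cc_l9_ok : (ptsOK 11 [1264, 310, 10, 1534, 818, 734, 879, 455, 295] && (wordsIn [0, 2, 4, 6, 8, 10, 12, 14, 16, 18, 20, 22, 24, 26, 28, 30] cc_l9.S && cc_l9.ok 11 x_ns x_ts [1264, 310, 10, 1534, 818, 734, 879, 455, 295])) = true := by decide +kernel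
theorem cc_l10_ok : (ptsOK 11 [1511, 1264, 310, 10, 1534, 818, 734, 879, 455, 295] && (wordsIn [0, 2, 4, 6, 8, 10, 12, 14, 16, 18, 20, 22, 24, 26, 28, 30] cc_l10.S && cc_l10.ok 11 x_ns x_ts [1511, 1264, 310, 10, 1534, 818, 734, 879, 455, 295])) = true := by decide +kernel
theorem cc_l11_ok : cc_l11.okT 11 x_ts [0, 2, 4, 6, 8, 10, 12, 14, 16, 18, 20, 22, 24, 26, 28, 30] [1608, 1511, 1264, 310, 10, 1534, 818, 734, 879, 455, 295] (.cons [0] .nil .nil) = true := by decide +kernel
theorem cc_aux : cc_S.auxB [0, 2, 4, 6, 8, 10, 12, 14, 16, 18, 20, 22, 24, 26, 28, 30] cc_ls [] (0 :: cc_lk) = true := by decide +kernel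
theorem cc_cov : Nat.beq (Nat.land cc_l0.O (Nat.lor cc_R0 (movedM 11 x_ns cc_S.u))) cc_l0.O = true := by decide +kernel
theorem cc_r0 : cc_S.run (.cons [] (.cons [] (.cons [] (.cons [] (.cons [] (.cons [] (.cons [] (.cons [] (.cons [] (.cons [] (.cons [] (.cons [] (.leaf 2000) (.cons [0] (.leaf 0) .nil)) .nil) .nil) .nil) .nil) (.cons [0] (.cons [] .nil .nil) (.cons [2] (.cons [] .nil .nil) (.cons [2, 0] (.cons [] .nil .nil) .nil)))) .nil) .nil) .nil) .nil) (.cons [0] (.cons [3, 3] (.cons [] (.cons [] .nil .nil) .nil) .nil) (.cons [3] (.cons [] (.cons [] (.cons [] .nil .nil) .nil) .nil) (.cons [2, 0] (.cons [3, 3, 0] (.cons [] (.cons [0] .nil .nil) .nil) .nil) (.cons [0, 3] (.cons [3, 3, 0] (.cons [] (.cons [] (.cons [] (.cons [] (.cons [] .nil .nil) (.cons [0] (.cons [] .nil .nil) (.cons [2] (.cons [] .nil .nil) (.cons [2, 0] (.cons [] (.cons [] (.cons [] (.cons [] (.cons [] (.leaf 2) (.cons [0] (.leaf 4) .nil)) .nil) .nil) .nil) .nil) .nil)))) .nil) .nil)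 .nil) .nil) (.cons [3, 3] (.cons [0] (.cons [0] (.cons [] (.cons [] (.cons [] (.cons [0] .nil .nil) (.cons [0] (.cons [0] (.cons [] (.cons [] (.cons [] (.cons [] (.leaf 6) (.cons [0] (.leaf 8) .nil)) .nil) .nil) .nil) .nil) (.cons [2] (.cons [0] .nil .nil) (.cons [2, 0] (.cons [0] .nil .nil) .nil)))) .nil) .nil) .nil) .nil) (.cons [2, 0, 3] (.cons [3, 3, 0] (.cons [] (.cons [0] .nil .nil) .nil) .nil) (.cons [3, 0, 3] (.cons [3, 3] (.cons [] (.cons [0] (.cons [] (.cons [] (.cons [0] .nil .nil) (.cons [0] (.cons [0] .nil .nil) (.cons [2] (.cons [0] .nil .nil) (.cons [2, 0] (.cons [0] (.cons [] (.cons [] (.cons [] (.cons [] (.leaf 10) (.cons [0] (.leaf 12) .nil)) .nil) .nil) .nil) .nil) .nil)))) .nil) .nil) .nil) .nil) (.cons [0, 2, 0] (.cons [] (.cons [0] (.cons [] (.cons [] (.cons [] (.cons [0] .nil .nil) (.cons [0] (.cons [0] (.cons [] (.cons [] (.cons [] (.cons [] (.leaf 14) (.cons [0] (.leaf 16) .nil)) .nil) .nil) .nil) .nil) (.cons [2] (.cons [0] .nil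 .nil) (.cons [2, 0] (.cons [0] .nil .nil) .nil)))) .nil) .nil) .nil) .nil) (.cons [2, 0, 2, 0] (.cons [] (.cons [0] (.cons [] .nil .nil) .nil) .nil) .nil)))))))))) (.cons [0, 6, 4] (.cons [] (.cons [2, 0] (.cons [] (.cons [0] .nil .nil) .nil) .nil) (.cons [0] (.cons [3] (.cons [] (.cons [0] .nil .nil) .nil) .nil) (.cons [3] (.cons [2, 0] (.cons [] (.cons [0] (.cons [] (.cons [] (.cons [2, 0] .nil .nil) (.cons [0] (.cons [2, 0] (.cons [] (.cons [] (.cons [] (.cons [] (.leaf 18) (.cons [0] (.leaf 20) .nil)) .nil) .nil) .nil) .nil) (.cons [2] (.cons [2, 0] .nil .nil) (.cons [2, 0] (.cons [2, 0] .nil .nil) .nil)))) .nil) .nil) .nil) .nil) (.cons [2, 0] (.cons [3, 0] (.cons [0] (.cons [0] (.cons [] (.cons [] (.cons [] .nil .nil) (.cons [0] (.cons [] .nil .nil) (.cons [2] (.cons [] (.cons [] (.cons [] (.cons [] (.cons [] (.leaf 22) (.cons [0] (.leaf 24) .nil)) .nil) .nil) .nil) .nil) (.cons [2, 0] (.cons [] .nil .nil) .nil)))) .nil) .nil) .nil) .nil) (.cons [0,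 3] (.cons [3] (.cons [] (.cons [0] .nil .nil) .nil) .nil) (.cons [3, 3] (.cons [2, 0] (.cons [] (.cons [] .nil .nil) .nil) .nil) (.cons [2, 0, 3] (.cons [3] (.cons [0] (.cons [0] (.cons [] (.cons [] (.cons [] .nil .nil) (.cons [0] (.cons [] .nil .nil) (.cons [2] (.cons [] (.cons [] (.cons [] (.cons [] (.cons [] (.leaf 26) (.cons [0] (.leaf 28) .nil)) .nil) .nil) .nil) .nil) (.cons [2, 0] (.cons [] .nil .nil) .nil)))) .nil) .nil) .nil) .nil) (.cons [3, 0, 3] (.cons [3, 0] (.cons [0] (.cons [0] (.cons [] (.cons [] (.cons [2] .nil .nil) (.cons [0] (.cons [2] .nil .nil) (.cons [2] (.cons [2] .nil .nil) (.cons [2, 0] (.cons [2] (.cons [] (.cons [] (.cons [] (.cons [] (.leaf 30) (.cons [0] (.leaf 32) .nil)) .nil) .nil) .nil) .nil) .nil)))) .nil) .nil) .nil) .nil) (.cons [0, 2, 0] (.cons [2, 0] (.cons [] (.cons [0] .nil .nil) .nil) .nil) (.cons [2, 0, 2, 0] (.cons [2, 0] (.cons [] (.cons [0] (.cons [] (.cons [] (.cons [2, 0] .nil .nil) (.cons [0] (.cons [2, 0]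 .nil .nil) (.cons [2] (.cons [2, 0] (.cons [] (.cons [] (.cons [] (.cons [] (.leaf 34) (.cons [0] (.leaf 36) .nil)) .nil) .nil) .nil) .nil) (.cons [2, 0] (.cons [2, 0] .nil .nil) .nil)))) .nil) .nil) .nil) .nil) .nil)))))))))) (.cons [6, 0, 5, 8] (.cons [] (.cons [3, 3, 0] (.cons [0] (.cons [0] (.cons [] (.cons [] (.cons [2] .nil .nil) (.cons [0] (.cons [2] .nil .nil) (.cons [2] (.cons [2] .nil .nil) (.cons [2, 0] (.cons [2] (.cons [] (.cons [] (.cons [] (.cons [] (.leaf 38) (.cons [0] (.leaf 40) .nil)) .nil) .nil) .nil) .nil) .nil)))) .nil) .nil) .nil) .nil) (.cons [0] (.cons [] (.cons [0] (.cons [] (.cons [] (.cons [] (.cons [2, 0] .nil .nil) (.cons [0] (.cons [2, 0] (.cons [] (.cons [] (.cons [] (.cons [] (.leaf 42) (.cons [0] (.leaf 44) .nil)) .nil) .nil) .nil) .nil) (.cons [2] (.cons [2, 0] .nil .nil) (.cons [2, 0] (.cons [2, 0] .nil .nil) .nil)))) .nil) .nil) .nil) .nil) (.cons [3] (.cons [3, 3] (.cons [] (.cons [] .nil .nil) .nil) .nil) (.cons [2,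 0] (.cons [0] (.cons [] (.cons [] (.cons [] (.cons [] (.cons [0] .nil .nil) (.cons [0] (.cons [0] (.cons [] (.cons [] (.cons [] (.cons [] (.leaf 46) (.cons [0] (.leaf 48) .nil)) .nil) .nil) .nil) .nil) (.cons [2] (.cons [0] .nil .nil) (.cons [2, 0] (.cons [0] .nil .nil) .nil)))) .nil) .nil) .nil) .nil) (.cons [0, 3] (.cons [0] (.cons [0] (.cons [] .nil .nil) .nil) .nil) (.cons [3, 3] (.cons [3, 3, 0] (.cons [] (.cons [] (.cons [] (.cons [] (.cons [0] (.cons [] (.cons [] (.cons [] (.cons [] (.leaf 50) (.cons [0] (.leaf 52) .nil)) .nil) .nil) .nil) .nil) (.cons [0] (.cons [0] .nil .nil) (.cons [2] (.cons [0] .nil .nil) (.cons [2, 0] (.cons [0] .nil .nil) .nil)))) .nil) .nil) .nil) .nil) (.cons [2, 0, 3] (.cons [] (.cons [] (.cons [0] .nil .nil) .nil) .nil) (.cons [3, 0, 3] (.cons [] (.cons [] (.cons [] .nil .nil) .nil) .nil) (.cons [0, 2, 0] (.cons [3, 3] (.cons [] (.cons [0] (.cons [] (.cons [] (.cons [0] .nil .nil) (.cons [0] (.cons [0] (.cons [] (.cons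 [] (.cons [] (.cons [] (.leaf 54) (.cons [0] (.leaf 56) .nil)) .nil) .nil) .nil) .nil) (.cons [2] (.cons [0] .nil .nil) (.cons [2, 0] (.cons [0] .nil .nil) .nil)))) .nil) .nil) .nil) .nil) (.cons [2, 0, 2, 0] (.cons [3, 3, 0] (.cons [0] (.cons [] .nil .nil) .nil) .nil) .nil)))))))))) (.cons [2, 0, 16, 0] (.cons [] (.cons [2] (.cons [0] (.cons [] .nil .nil) .nil) .nil) (.cons [0] (.cons [3] (.cons [0] (.cons [0] .nil .nil) .nil) .nil) (.cons [3] (.cons [2] (.cons [0] (.cons [] .nil .nil) .nil) .nil) (.cons [2, 0] (.cons [3] (.cons [0] (.cons [0] .nil .nil) .nil) .nil) (.cons [0, 3] (.cons [3, 0] (.cons [] (.cons [0] (.cons [] (.cons [] (.cons [0] .nil .nil) (.cons [0] (.cons [0] (.cons [] (.cons [] (.cons [] (.cons [] (.leaf 58) (.cons [0] (.leaf 60) .nil)) .nil) .nil) .nil) .nil) (.cons [2] (.cons [0] .nil .nil) (.cons [2, 0] (.cons [0] .nil .nil) .nil)))) .nil) .nil) .nil) .nil) (.cons [3, 3] (.cons [2] (.cons [0] (.cons [] .nil .nil) .nil) .nil) (.cons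 [2, 0, 3] (.cons [3, 0] (.cons [] (.cons [0] (.cons [] (.cons [] (.cons [] .nil .nil) (.cons [0] (.cons [] .nil .nil) (.cons [2] (.cons [] (.cons [] (.cons [] (.cons [] (.cons [] (.leaf 62) (.cons [0] (.leaf 64) .nil)) .nil) .nil) .nil) .nil) (.cons [2, 0] (.cons [] .nil .nil) .nil)))) .nil) .nil) .nil) .nil) (.cons [3, 0, 3] (.cons [3, 0] (.cons [] (.cons [0] (.cons [] (.cons [] (.cons [0] .nil .nil) (.cons [0] (.cons [0] .nil .nil) (.cons [2] (.cons [0] .nil .nil) (.cons [2, 0] (.cons [0] (.cons [] (.cons [] (.cons [] (.cons [] (.leaf 66) (.cons [0] (.leaf 68) .nil)) .nil) .nil) .nil) .nil) .nil)))) .nil) .nil) .nil) .nil) (.cons [0, 2, 0] (.cons [2] (.cons [0] (.cons [] (.cons [] (.cons [] (.cons [] .nil .nil) (.cons [0] (.cons [] (.cons [] (.cons [] (.cons [] (.cons [] (.leaf 70) (.cons [0] (.leaf 72) .nil)) .nil) .nil) .nil) .nil) (.cons [2] (.cons [] .nil .nil) (.cons [2, 0] (.cons [] .nil .nil) .nil)))) .nil) .nil) .nil) .nil) (.cons [2, 0, 2, 0]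 (.cons [2] (.cons [0] (.cons [] (.cons [] (.cons [] (.cons [2] .nil .nil) (.cons [0] (.cons [2] .nil .nil) (.cons [2] (.cons [2] (.cons [] (.cons [] (.cons [] (.cons [] (.leaf 74) (.cons [0] (.leaf 76) .nil)) .nil) .nil) .nil) .nil) (.cons [2, 0] (.cons [2] .nil .nil) .nil)))) .nil) .nil) .nil) .nil) .nil)))))))))) (.cons [0, 5, 7, 10] (.cons [] (.cons [] (.cons [0] (.cons [0] .nil .nil) .nil) .nil) (.cons [0] (.cons [3, 3] (.cons [] (.cons [0] .nil .nil) .nil) .nil) (.cons [3] (.cons [] (.cons [0] (.cons [0] .nil .nil) .nil) .nil) (.cons [2, 0] (.cons [3, 3] (.cons [] (.cons [0] .nil .nil) .nil) .nil) (.cons [0, 3] (.cons [3, 3] (.cons [] (.cons [] (.cons [] (.cons [] (.cons [] (.cons [] (.cons [] (.cons [] (.cons [] (.leaf 78) (.cons [0] (.leaf 80) .nil)) .nil) .nil) .nil) .nil) (.cons [0] (.cons [] .nil .nil) (.cons [2] (.cons [] .nil .nil) (.cons [2, 0] (.cons [] .nil .nil) .nil)))) .nil) .nil) .nil) .nil) (.cons [3, 3] (.cons [] (.cons [0] (.cons [0]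 .nil .nil) .nil) .nil) (.cons [2, 0, 3] (.cons [3, 3] (.cons [] (.cons [] (.cons [] (.cons [] (.cons [0] .nil .nil) (.cons [0] (.cons [0] .nil .nil) (.cons [2] (.cons [0] .nil .nil) (.cons [2, 0] (.cons [0] (.cons [] (.cons [] (.cons [] (.cons [] (.leaf 82) (.cons [0] (.leaf 84) .nil)) .nil) .nil) .nil) .nil) .nil)))) .nil) .nil) .nil) .nil) (.cons [3, 0, 3] (.cons [3, 3] (.cons [] (.cons [] (.cons [] (.cons [] (.cons [2] .nil .nil) (.cons [0] (.cons [2] .nil .nil) (.cons [2] (.cons [2] .nil .nil) (.cons [2, 0] (.cons [2] (.cons [] (.cons [] (.cons [] (.cons [] (.leaf 86) (.cons [0] (.leaf 88) .nil)) .nil) .nil) .nil) .nil) .nil)))) .nil) .nil) .nil) .nil) (.cons [0, 2, 0] (.cons [] (.cons [] (.cons [0] (.cons [] (.cons [] (.cons [2] .nil .nil) (.cons [0] (.cons [2] (.cons [] (.cons [] (.cons [] (.cons [] (.leaf 90) (.cons [0] (.leaf 92) .nil)) .nil) .nil) .nil) .nil) (.cons [2] (.cons [2] .nil .nil) (.cons [2, 0] (.cons [2] .nil .nil) .nil)))) .nil) .nil)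 .nil) .nil) (.cons [2, 0, 2, 0] (.cons [] (.cons [] (.cons [0] (.cons [] (.cons [] (.cons [] .nil .nil) (.cons [0] (.cons [] (.cons [] (.cons [] (.cons [] (.cons [] (.leaf 94) (.cons [0] (.leaf 96) .nil)) .nil) .nil) .nil) .nil) (.cons [2] (.cons [] .nil .nil) (.cons [2, 0] (.cons [] .nil .nil) .nil)))) .nil) .nil) .nil) .nil) .nil)))))))))) .nil))))) (⟨cc_l0.b, cc_l0.S, [], cc_R0, 0⟩ :: cc_tl) (0 :: cc_lk) Pd.nil 0 = true := by decide +kernel
theorem cc_sound {G : Type*} [Group G] {φ : G →* Equiv.Perm ℕ} {γ : ℕ → G}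
    (M : Model φ γ 11 x_ns x_ts) : ChainSound φ (gp γ [0, 2, 4, 6, 8, 10, 12, 14, 16, 18, 20, 22, 24, 26, 28, 30]) 11 [] cc_ls :=
  ⟨Level.ok_sound' M cc_l0_ok,
   Level.okT_sound M cc_l1_ok,
   Level.okT_sound M cc_l2_ok,
   Level.okT_sound M cc_l3_ok,
   Level.okT_sound M cc_l4_ok,
   Level.ok_sound' M cc_l5_ok,
   Level.okT_sound M cc_l6_ok,
   Level.okT_sound M cc_l7_ok,
   Level.ok_sound' M cc_l8_ok,
   Level.ok_sound' M cc_l9_ok,
   Level.ok_sound' M cc_l10_ok,
   Level.okT_sound M cc_l11_ok, trivial⟩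
theorem cc_cent {G : Type*} [Group G] {φ : G →* Equiv.Perm ℕ} {γ : ℕ → G}
    (C : Cert φ γ 11 x_ns x_ts [0, 2, 4, 6, 8, 10, 12, 14, 16, 18, 20, 22, 24, 26, 28, 30] c2_ls) : Cent γ cc_S.u cc_S.Cl 0 :=
  have X := (C.rechain (cc_sound C.M) (by decide +kernel)).exact
  have A := Srch.auxB_sound (S := cc_S) C.M (K := ⊤) le_top rfl cc_aux
  have F := fun {tr : Tr} {R : ℕ} => Srch.found_of_run (S := cc_S) C.M C.base (by decide +kernel) X A (tr := tr) (R := R)
  Cent.of_found_fix (S := cc_S) C.M X rfl (F cc_r0) (by decide +kernel) cc_cov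

end Cfsg.Agent.TitsQ
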