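import Cfsg.Agent.TitsQ.Ca
import Cfsg.Agent.TitsQ.Cb
import Cfsg.Agent.TitsQ.Cc

set_option autoImplicit false
set_option Elab.async false
set_option maxRecDepth 100000
set_option linter.all false

namespace Cfsg.Agent.TitsQ
open Cfsg.Agent.CGT

open Cfsg.Agent.Inv

open Cfsg.Agent.TwC

noncomputable def r_W : List (List ℕ) := [[16, 22], [0, 29], [18, 10], [24, 0], [8, 14], [29, 22], [8, 0], [28, 14], [11, 8], [26, 8], [12, 16], [7, 5], [22, 0], [16, 18], [22, 16], [21, 16], [12, 10, 28], [0, 28, 14], [4, 7, 4, 0], [29, 22, 10, 6], [26, 18, 31, 6, 5, 12, 18, 12, 31, 23, 28, 14, 28, 4]]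
noncomputable def ca_P : List (List ℕ × List ℕ × ℕ) := [([], [], 99), ([30], [6, 2, 23, 14, 21], 2), ([30, 30], [2, 7, 29, 2, 5], 5), ([30, 30, 30], [25, 5, 24, 4, 10, 5], 2), ([30, 30, 30, 30], [20, 2, 5, 18, 27], 2), ([30, 30, 30, 30, 30], [20, 30, 8, 29, 10, 18], 5), ([30, 30, 30, 30, 30, 30], [12, 26, 25, 30, 29], 5), ([30, 30, 30, 30, 30, 30, 30], [0, 2, 14, 0, 24, 7], 5), ([30, 30, 30, 30, 30, 30, 30, 30], [25, 30, 26, 2, 10, 5, 18], 5), ([30, 30, 30, 30, 30, 30, 30, 30, 30], [7, 5, 8, 30, 2, 29], 2), ([30, 30, 30, 30, 30, 30, 30, 30, 30, 30], [24, 11, 2, 18, 5], 2), ([30, 30, 30, 30, 30, 30, 30, 30, 30, 30, 30], [5, 25, 0, 18, 29, 0], 5), ([30, 30, 30, 30, 30, 30, 30, 30, 30, 30, 30, 30], [4, 6, 12, 28, 24, 28], 2)]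
noncomputable def cb_P : List (List ℕ × List ℕ × ℕ) := [([], [], 99), ([22], [4, 20, 28, 28, 18, 16], 17), ([22, 22], [7, 18, 24, 4, 18, 28], 17), ([2, 0, 5, 2, 6, 4, 4, 6, 8, 16], [29, 16, 28, 16, 21, 2], 18), ([2, 0, 5, 2, 6, 4, 4, 6, 8, 16, 22], [27, 5, 24, 26, 10], 6), ([2, 0, 5, 2, 6, 4, 4, 6, 8, 16, 22, 22], [7, 22, 6, 20, 20, 29], 11), ([11, 0, 10, 5, 2, 5, 6, 10, 8, 16], [26, 4, 31, 8, 18, 31], 11), ([11, 0, 10, 5, 2, 5, 6, 10, 8, 16, 22], [21, 21, 8, 29, 0, 8], 18), ([11, 0, 10, 5, 2, 5, 6, 10, 8, 16, 22, 22], [20, 11, 7, 26, 26, 5], 6), ([14, 7, 16, 0, 6, 0, 6, 4, 6, 10, 14], [23, 0, 12, 18, 20, 29], 18), ([14, 7, 16, 0, 6, 0, 6, 4, 6, 10, 14, 22], [8, 22, 27, 10, 20, 31], 6), ([14, 7, 16, 0, 6, 0, 6, 4, 6, 10, 14, 22, 22], [22, 18, 28, 24, 31], 11), ([11, 2, 4, 0, 6, 4], [26, 6, 29, 25, 12, 2], 13), ([11, 2, 4,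 0, 6, 4, 22], [7, 25, 29, 7, 20], 19), ([11, 2, 4, 0, 6, 4, 22, 22], [8, 28, 30, 7, 21, 2], 13), ([5, 8, 0, 10, 12, 0, 6, 4, 2, 4, 8], [12, 23, 7, 8, 5, 22], 17), ([5, 8, 0, 10, 12, 0, 6, 4, 2, 4, 8, 22], [27, 22, 2, 0, 18, 21, 12], 17), ([5, 8, 0, 10, 12, 0, 6, 4, 2, 4, 8, 22, 22], [21, 4, 12, 26, 4, 2, 24], 17), ([6, 12, 0, 16, 0, 4, 2, 4, 4, 11, 12, 14], [21, 22, 2, 24], 13), ([6, 12, 0, 16, 0, 4, 2, 4, 4, 11, 12, 14, 22], [2, 20, 2, 5, 26, 26], 13), ([6, 12, 0, 16, 0, 4, 2, 4, 4, 11, 12, 14, 22, 22], [23, 28, 10, 18, 23, 18], 19), ([12, 5, 0, 2, 5, 8, 0, 6, 12, 16], [12, 4, 7, 31, 28], 17), ([12, 5, 0, 2, 5, 8, 0, 6, 12, 16, 22], [5, 21, 23, 2, 6, 18], 17), ([12, 5, 0, 2, 5, 8, 0, 6, 12, 16, 22, 22], [6, 4, 12, 25, 30], 17), ([16, 7, 5, 5, 6, 0, 11, 11, 12, 14], [30, 14, 2, 30, 11, 7], 11), ([16, 7, 5, 5, 6, 0, 11, 11,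 12, 14, 22], [0, 7, 18, 22, 18], 6), ([16, 7, 5, 5, 6, 0, 11, 11, 12, 14, 22, 22], [28, 16, 30, 12, 20, 27], 18), ([11, 7, 12, 0, 7, 2, 0, 5, 2, 4, 4, 10, 14], [12, 4, 2, 16, 25, 10], 18), ([11, 7, 12, 0, 7, 2, 0, 5, 2, 4, 4, 10, 14, 22], [25, 16, 2, 7, 22, 12], 11), ([11, 7, 12, 0, 7, 2, 0, 5, 2, 4, 4, 10, 14, 22, 22], [31, 2, 18, 5, 10, 0, 25], 6), ([8, 4, 4, 2, 0, 4, 4, 8, 11, 11], [11, 21, 29, 26, 26, 7], 13), ([8, 4, 4, 2, 0, 4, 4, 8, 11, 11, 22], [0, 8, 10, 0, 21, 29], 13), ([8, 4, 4, 2, 0, 4, 4, 8, 11, 11, 22, 22], [5, 2, 12, 25, 28, 30], 19), ([14, 0, 10, 12, 0, 2, 10, 12, 16], [20, 10, 12, 0, 26, 0], 6), ([14, 0, 10, 12, 0, 2, 10, 12, 16, 22], [28, 26, 26, 23, 11, 20], 18), ([14, 0, 10, 12, 0, 2, 10, 12, 16, 22, 22], [27, 2, 5, 18, 20, 23, 11], 11), ([12, 8, 2, 0, 6, 4, 4, 2, 6, 12], [21, 6, 20, 30, 5, 23], 11), ([12,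 8, 2, 0, 6, 4, 4, 2, 6, 12, 22], [4, 11, 4, 25, 23, 8], 18), ([12, 8, 2, 0, 6, 4, 4, 2, 6, 12, 22, 22], [31, 6, 6, 26, 0, 12], 6), ([7, 2, 10, 0, 6, 4, 4, 2, 11, 8], [29, 22, 11, 12, 28, 18], 11), ([7, 2, 10, 0, 6, 4, 4, 2, 11, 8, 22], [21, 10, 22, 29, 20, 20], 6), ([7, 2, 10, 0, 6, 4, 4, 2, 11, 8, 22, 22], [25, 21, 29, 31], 18), ([14, 16, 0, 2, 0, 4, 4, 2, 10, 12], [22, 18, 30, 30, 5], 13), ([14, 16, 0, 2, 0, 4, 4, 2, 10, 12, 22], [27, 4, 27, 30, 8, 11], 13), ([14, 16, 0, 2, 0, 4, 4, 2, 10, 12, 22, 22], [0, 8, 22, 27, 31], 19), ([0, 8, 2, 5, 11, 5, 0, 4, 4, 10, 8], [25, 12, 21, 29, 11], 11), ([0, 8, 2, 5, 11, 5, 0, 4, 4, 10, 8, 22], [4, 31, 22, 31, 8], 6), ([0, 8, 2, 5, 11, 5, 0, 4, 4, 10, 8, 22, 22], [7, 25, 0, 23, 30, 10], 18), ([2, 6, 11, 0, 5, 2, 4, 10], [26, 30, 23, 11, 7, 20], 11), ([2, 6, 11, 0, 5, 2, 4, 10, 22], [20,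 22, 6, 21, 4, 26], 6), ([2, 6, 11, 0, 5, 2, 4, 10, 22, 22], [28, 6, 18, 2, 30, 30], 18), ([0, 4, 11, 4, 0, 2, 6, 16], [0, 26, 23, 4, 23], 11), ([0, 4, 11, 4, 0, 2, 6, 16, 22], [0, 22, 30, 12, 5, 21], 18), ([0, 4, 11, 4, 0, 2, 6, 16, 22, 22], [14, 7, 2, 25, 22, 18], 6), ([4, 2, 7, 0, 2, 5, 8, 11, 11, 14], [2, 21, 6, 27, 7, 0], 13), ([4, 2, 7, 0, 2, 5, 8, 11, 11, 14, 22], [23, 8, 23, 4, 31, 2], 13), ([4, 2, 7, 0, 2, 5, 8, 11, 11, 14, 22, 22], [21, 22, 18, 0, 21], 19), ([10, 16, 6, 0, 5, 2, 4, 4, 6, 11, 16], [14, 30, 26, 10, 16, 20], 17), ([10, 16, 6, 0, 5, 2, 4, 4, 6, 11, 16, 22], [29, 29, 5, 29, 4], 17), ([10, 16, 6, 0, 5, 2, 4, 4, 6, 11, 16, 22, 22], [23, 2, 5, 30, 29, 30], 17), ([4, 8, 2, 0, 4, 11, 0, 5, 10, 8, 12], [11, 0, 31, 4, 20, 18], 18), ([4, 8, 2, 0, 4, 11, 0, 5, 10, 8, 12, 22], [27, 5, 10, 24, 12, 7], 6), ([4, 8,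 2, 0, 4, 11, 0, 5, 10, 8, 12, 22, 22], [4, 18, 8, 28, 8, 22], 11), ([10, 16, 12, 0, 11, 0, 2, 10, 12], [11, 8, 2, 22, 6, 10], 19), ([10, 16, 12, 0, 11, 0, 2, 10, 12, 22], [0, 14, 0, 26, 21], 13), ([10, 16, 12, 0, 11, 0, 2, 10, 12, 22, 22], [8, 24, 29, 14, 18, 28], 13), ([5, 12, 0, 2, 11, 0, 4, 11, 11], [7, 28, 0, 12, 20], 19), ([5, 12, 0, 2, 11, 0, 4, 11, 11, 22], [22, 31, 5, 7, 30, 14, 29], 13), ([5, 12, 0, 2, 11, 0, 4, 11, 11, 22, 22], [4, 10, 25, 18, 20, 12], 13), ([2, 14, 0, 12, 2, 0, 10, 5, 6, 11, 14], [4, 6, 24, 7, 25, 18], 17), ([2, 14, 0, 12, 2, 0, 10, 5, 6, 11, 14, 22], [0, 7, 25, 21, 5, 16], 17), ([2, 14, 0, 12, 2, 0, 10, 5, 6, 11, 14, 22, 22], [10, 21, 22, 14, 27, 2], 17), ([2, 8, 0, 12, 14, 0, 10, 5, 16], [6, 20, 23, 5, 11, 27], 6), ([2, 8, 0, 12, 14, 0, 10, 5, 16, 22], [20, 0, 5, 8, 27, 21], 18), ([2, 8, 0, 12,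 14, 0, 10, 5, 16, 22, 22], [16, 26, 28, 28, 11, 5], 11), ([14, 6, 10, 0, 5, 11, 0, 2, 5, 11, 8], [8, 25, 12, 31, 20], 11), ([14, 6, 10, 0, 5, 11, 0, 2, 5, 11, 8, 22], [7, 25, 12, 10, 31, 24], 18), ([14, 6, 10, 0, 5, 11, 0, 2, 5, 11, 8, 22, 22], [30, 29, 10, 18, 2, 27], 6), ([12, 0, 5, 5, 0, 2, 5, 10, 12], [11, 5, 27, 20, 18, 2], 6), ([12, 0, 5, 5, 0, 2, 5, 10, 12, 22], [29, 31, 21, 18, 8], 11), ([12, 0, 5, 5, 0, 2, 5, 10, 12, 22, 22], [30, 4, 20, 2, 24, 8], 18), ([8, 0, 2, 5, 8, 0, 6, 4, 8, 12], [11, 12, 23, 21, 14, 6], 17), ([8, 0, 2, 5, 8, 0, 6, 4, 8, 12, 22], [27, 8, 29, 5, 26, 7], 17), ([8, 0, 2, 5, 8, 0, 6, 4, 8, 12, 22, 22], [22, 2, 31, 12, 2, 18], 17), ([14, 8, 5, 0, 6, 2, 0, 5, 2, 10, 12], [5, 27, 11, 5, 29, 8], 17), ([14, 8, 5, 0, 6, 2, 0, 5, 2, 10, 12, 22], [11, 28, 25, 20, 5], 17), ([14, 8, 5, 0, 6, 2, 0, 5, 2,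 10, 12, 22, 22], [18, 0, 25, 8, 22], 17), ([0, 12, 0, 4, 12, 0, 4, 2, 4, 6, 12], [31, 23, 7, 0, 5], 17), ([0, 12, 0, 4, 12, 0, 4, 2, 4, 6, 12, 22], [6, 14, 4, 28, 8, 29], 17), ([0, 12, 0, 4, 12, 0, 4, 2, 4, 6, 12, 22, 22], [24, 8, 28, 23, 27], 17), ([0, 6, 2, 5, 11, 7, 4, 8, 0, 6, 4, 10], [28, 7, 26, 11, 26], 6), ([0, 6, 2, 5, 11, 7, 4, 8, 0, 6, 4, 10, 22], [16, 25, 0, 11, 8, 23], 18), ([0, 6, 2, 5, 11, 7, 4, 8, 0, 6, 4, 10, 22, 22], [20, 11, 28, 11, 23, 24], 11), ([10, 8, 0, 16, 7, 0, 2, 5, 11], [0, 24, 6, 29, 4, 21], 11), ([10, 8, 0, 16, 7, 0, 2, 5, 11, 22], [21, 28, 0, 5, 7, 22], 6), ([10, 8, 0, 16, 7, 0, 2, 5, 11, 22, 22], [5, 30, 0, 5, 18], 18), ([6, 11, 16, 14, 0, 2, 5, 6, 4, 11, 12], [21, 0, 26, 30, 5, 11], 13), ([6, 11, 16, 14, 0, 2, 5, 6, 4, 11, 12, 22], [2, 7, 18, 25, 2, 27], 19), ([6, 11, 16, 14, 0, 2, 5, 6, 4,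 11, 12, 22, 22], [18, 7, 24, 12, 26, 6], 13), ([10, 4, 4, 7, 2, 0, 5, 6, 4, 10, 12], [8, 0, 27, 5, 12, 14], 17), ([10, 4, 4, 7, 2, 0, 5, 6, 4, 10, 12, 22], [0, 18, 21, 29, 21, 4], 17), ([10, 4, 4, 7, 2, 0, 5, 6, 4, 10, 12, 22, 22], [0, 4, 27, 8, 5, 7], 17), ([14, 12, 4, 0, 4, 0, 5, 2, 10, 16], [30, 10, 0, 6, 16, 21], 13), ([14, 12, 4, 0, 4, 0, 5, 2, 10, 16, 22], [8, 18, 10, 0, 4, 4], 19), ([14, 12, 4, 0, 4, 0, 5, 2, 10, 16, 22, 22], [23, 21, 2, 0, 11, 30], 13), ([6, 10, 0, 4, 10, 7, 0, 10, 5, 14], [30, 14, 26, 18, 16, 22], 6), ([6, 10, 0, 4, 10, 7, 0, 10, 5, 14, 22], [22, 14, 31, 25, 16, 27], 11), ([6, 10, 0, 4, 10, 7, 0, 10, 5, 14, 22, 22], [2, 5, 14, 25, 11, 28, 24], 18)]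
noncomputable def cc_P : List (List ℕ × List ℕ × ℕ) := [([], [], 99), ([4, 11, 14, 16, 0, 2, 0, 10, 5, 14, 16], [2, 8, 0, 29, 5, 27], 20), ([14, 2, 0, 6, 5, 0, 6, 4, 2, 10, 8, 12], [21, 25, 0, 12, 10], 9), ([12, 6, 2, 0, 6, 2, 0, 5, 6, 10], [6, 14, 30, 0, 10, 30], 0), ([0, 12, 4, 0, 6, 0, 8, 0, 10, 5, 16], [2, 24, 6, 18, 16, 22], 0), ([16, 12, 0, 2, 5, 8, 0, 11, 8], [8, 25, 10, 31, 14], 9), ([16, 0, 7, 2, 10, 0, 2, 4, 4, 12, 14, 16], [6, 0, 7, 26, 31], 0), ([2, 7, 0, 8, 2, 0, 4, 10, 12], [6, 21, 24, 6, 20, 31], 9), ([4, 11, 0, 4, 11, 4, 11, 0, 6, 4, 11], [16, 18, 6, 6, 25, 21], 0), ([7, 16, 0, 6, 11, 0, 2, 4, 12, 14, 16], [29, 7, 21, 7, 25, 14], 9), ([11, 14, 0, 12, 8, 6, 0, 8, 4, 0, 2], [2, 26, 7, 7, 18, 2], 9), ([0, 4, 0, 10, 0, 4, 11, 8, 12, 16], [18, 2, 21, 23, 28, 4], 0), ([11, 0, 14, 0, 10, 5, 2, 10, 14], [2, 11, 25,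 22, 29, 29], 9), ([10, 5, 14, 8, 0, 8, 5, 0, 2, 6, 4], [21, 21, 5, 29, 7, 27, 16], 0), ([0, 14, 6, 0, 10, 5, 2, 12, 16], [29, 20, 31, 18, 8], 9), ([4, 2, 12, 11, 0, 6, 4, 4, 2, 5, 8], [4, 21, 7, 25, 11, 25], 20), ([2, 16, 0, 8, 16, 10, 0, 6, 4, 8, 16], [7, 18, 8, 26, 21, 0], 9), ([11, 2, 5, 0, 14, 10, 0, 2, 10, 14, 16], [5, 21, 22, 6, 16], 0), ([0, 11, 5, 0, 11, 0, 4, 11, 8, 12], [6, 18, 5, 22, 20, 26, 5], 9), ([6, 10, 0, 6, 2, 0, 4, 2, 5, 10, 16], [30, 11, 16, 23, 12, 21], 0), ([0, 7, 0, 4, 12, 16, 7, 11, 0, 8, 12, 16], [16, 27, 20, 28, 25], 9), ([5, 2, 16, 4, 8, 4, 0, 2, 11], [26, 6, 29, 11, 2, 29], 0), ([2, 11, 0, 4, 4, 2, 4, 11, 11], [4, 12, 29, 31, 18, 0], 0), ([4, 4, 4, 11, 0, 10, 12, 0, 5, 8, 12], [7, 2, 21, 2, 22, 4], 9), ([10, 0, 4, 11, 0, 6, 4, 6, 8, 11, 11], [26, 31, 16, 30, 10], 9), ([16, 0, 12, 6, 2, 0, 5, 6,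 8, 12, 16], [25, 12, 29, 20, 29], 0), ([16, 11, 0, 2, 10, 10, 0, 10, 16], [6, 25, 18, 20, 22, 5], 20), ([6, 8, 4, 4, 2, 0, 6, 8], [20, 28, 16, 27, 4, 8], 9), ([16, 11, 0, 7, 0, 4, 10, 7, 0, 2, 6], [14, 29, 23, 5, 7, 11], 9), ([5, 7, 2, 0, 4, 2, 5, 6, 16], [18, 7, 16, 25, 20, 12], 0), ([7, 5, 2, 12, 0, 4, 2, 11, 11], [2, 24, 23, 30, 7, 30], 9), ([12, 16, 2, 0, 5, 6, 4, 2, 4], [12, 25, 21, 27, 6, 2], 0), ([7, 8, 0, 2, 4, 4, 6, 11, 11, 14, 16], [10, 30, 12, 10, 5, 30], 9), ([7, 2, 4, 12, 0, 4, 2, 14], [29, 18, 25, 2, 29, 30], 20), ([4, 0, 5, 6, 0, 2, 5, 6, 4, 10, 12, 14, 16], [2, 29, 7, 28, 10], 9), ([8, 0, 5, 11, 0, 2, 4, 4, 6, 10, 16], [29, 30, 20, 28, 2, 21], 0), ([5, 8, 0, 11, 11, 4, 0, 10, 5, 6], [20, 12, 10, 22, 28, 18], 0), ([2, 14, 5, 0, 6, 2, 0, 6, 4, 2, 10, 5, 16], [31, 27, 8, 25, 16], 9), ([2, 0, 8, 12, 0, 4, 0, 2,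 4, 4, 6], [18, 24, 4, 18, 5, 2, 23], 0), ([5, 10, 7, 5, 0, 2, 6, 4, 11, 16], [10, 23, 29, 7, 30, 6], 9), ([10, 12, 0, 16, 8, 0, 4, 2, 10, 5, 10, 16], [29, 2, 5, 26, 5], 20), ([16, 5, 2, 5, 0, 4, 0, 4, 4, 2, 5], [20, 6, 5, 21, 30, 14, 30], 9), ([5, 6, 4, 4, 0, 2, 4, 14], [26, 11, 30, 0, 21, 6], 0), ([7, 0, 16, 0, 5, 2, 5, 6, 11], [29, 7, 24, 12, 16, 28], 9), ([0, 12, 0, 16, 7, 0, 11, 14, 16], [20, 11, 28, 7, 21, 26], 0), ([5, 16, 2, 0, 5, 2, 5, 6, 12], [25, 22, 20, 24, 0], 9), ([8, 6, 4, 0, 4, 10, 7, 0, 4, 8, 16], [23, 29, 7, 16, 2, 25], 0), ([7, 2, 10, 0, 10, 5, 6, 8, 14], [25, 21, 8, 24, 27], 9), ([4, 12, 0, 12, 2, 0, 4, 2, 6, 11, 12], [25, 21, 12, 11, 24, 28], 9), ([14, 6, 8, 0, 5, 0, 6, 4, 4, 11, 14, 16], [6, 12, 4, 0, 21, 26], 0)]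
noncomputable def p_P : List (List ℕ × List ℕ) := [([], [1, 2]), ([22], [3, 4]), ([24], [5, 6]), ([22, 22], [0, 7]), ([24, 22], [8, 9]), ([22, 24], [10, 11]), ([24, 24], [12, 0]), ([24, 22, 22], [13, 14]), ([22, 24, 22], [15, 16]), ([24, 24, 22], [17, 1]), ([22, 22, 24], [2, 17]), ([24, 22, 24], [14, 18]), ([22, 24, 24], [16, 19]), ([22, 24, 22, 22], [20, 21]), ([24, 24, 22, 22], [22, 3]), ([22, 22, 24, 22], [4, 22]), ([24, 22, 24, 22], [6, 23]), ([22, 24, 24, 22], [21, 24]), ([24, 24, 22, 24], [23, 5]), ([24, 22, 24, 24], [24, 20]), ([22, 22, 24, 22, 22], [7, 12]), ([24, 22, 24, 22, 22], [9, 25]), ([22, 24, 24, 22, 22], [11, 26]), ([24, 24, 22, 24, 22], [25, 8]), ([24, 22, 24, 24, 22], [26, 10]), ([24, 24, 22, 24, 22, 22], [18, 13]), ([24, 22, 24, 24, 22, 22], [19, 15])]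
noncomputable def p_E : List (List ℕ) := [[], [22], [24], [22, 22], [24, 22], [22, 24], [24, 24], [24, 22, 22], [22, 24, 22], [24, 24, 22], [22, 22, 24], [24, 22, 24], [22, 24, 24], [22, 24, 22, 22], [24, 24, 22, 22], [22, 22, 24, 22], [24, 22, 24, 22], [22, 24, 24, 22], [24, 24, 22, 24], [24, 22, 24, 24], [22, 22, 24, 22, 22], [24, 22, 24, 22, 22], [22, 24, 24, 22, 22], [24, 24, 22, 24, 22], [24, 22, 24, 24, 22], [24, 24, 22, 24, 22, 22], [24, 22, 24, 24, 22, 22]]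
noncomputable def pc_l0 : Level := ⟨0, [[22], [24]], [], 0x8000000000000000000000000000000040000000000000000000000006000000000000000001010000004000020000000000001400000000000000000000000000000040000000000000000002000000000000000000000000000000000000000000000000000000000000000000000000000002000000000000000000000000000000004000000000000000000000000040008000000002800000006c00000000004000000000000000000080000000000000000000000000007, 27⟩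
noncomputable def pc_ls : List Level := [pc_l0]
noncomputable def p_I : List (List ℕ × List ℕ) := [([], []), ([22], []), ([24], [29, 16, 23, 31, 2]), ([22, 22], [8, 30, 26, 7, 4, 12, 0]), ([24, 22], [2, 7, 10, 6, 26, 11]), ([22, 24], [25, 30, 30, 6, 14, 2, 5]), ([24, 24], [28, 25, 0, 16, 2, 31]), ([24, 22, 22], [27, 20, 5, 0, 22, 14]), ([22, 24, 22], [16, 21, 28, 20, 7]), ([24, 24, 22], [4, 24, 20, 20, 18, 22]), ([22, 22, 24], [20, 8, 28, 0, 11, 22]), ([24, 22, 24], [22, 26, 12, 30, 29]), ([22, 24, 24], [21, 6, 12, 23, 27, 12]), ([22, 24, 22, 22], [25, 0, 16, 23, 18, 6]), ([24, 24, 22, 22], [20, 4, 11, 30, 0, 10]), ([22, 22, 24, 22], [18, 2, 5, 28, 20, 16]), ([24, 22, 24, 22], [7, 12, 30, 5, 6, 20, 12]), ([22, 24, 24, 22], [22, 30, 10, 7, 25, 16]), ([24, 24, 22, 24], [27, 8, 30, 23, 12, 25]), ([24, 22, 24, 24], [22, 0, 20,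 14, 26, 30]), ([22, 22, 24, 22, 22], [31, 18, 27, 11, 25, 8]), ([24, 22, 24, 22, 22], [16, 27, 14, 5, 22, 11]), ([22, 24, 24, 22, 22], [4, 21, 11, 30, 11, 4]), ([24, 24, 22, 24, 22], [8, 31, 26, 6, 14, 0]), ([24, 22, 24, 24, 22], [22, 24, 2, 18, 2]), ([24, 24, 22, 24, 22, 22], [20, 8, 31, 20, 2, 20]), ([24, 22, 24, 24, 22, 22], [27, 6, 23, 31, 18])]
noncomputable def q_P : List (List ℕ × List ℕ) := [([], [1, 2]), ([26], [3, 4]), ([28], [4, 5]), ([26, 26], [6, 7]), ([28, 26], [7, 8]), ([28, 28], [8, 9]), ([26, 26, 26], [10, 11]), ([28, 26, 26], [11, 12]), ([28, 28, 26], [12, 13]), ([28, 28, 28], [13, 14]), ([26, 26, 26, 26], [0, 15]), ([28, 26, 26, 26], [15, 16]), ([28, 28, 26, 26], [16, 17]), ([28, 28, 28, 26], [17, 18]), ([28, 28, 28, 28], [18, 0]), ([28, 26, 26, 26, 26], [2, 19]), ([28, 28, 26, 26, 26], [19, 20]), ([28,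 28, 28, 26, 26], [20, 21]), ([28, 28, 28, 28, 26], [21, 1]), ([28, 28, 26, 26, 26, 26], [5, 22]), ([28, 28, 28, 26, 26, 26], [22, 23]), ([28, 28, 28, 28, 26, 26], [23, 3]), ([28, 28, 28, 26, 26, 26, 26], [9, 24]), ([28, 28, 28, 28, 26, 26, 26], [24, 6]), ([28, 28, 28, 28, 26, 26, 26, 26], [14, 10])]
noncomputable def q_E : List (List ℕ) := [[], [26], [28], [26, 26], [28, 26], [28, 28], [26, 26, 26], [28, 26, 26], [28, 28, 26], [28, 28, 28], [26, 26, 26, 26], [28, 26, 26, 26], [28, 28, 26, 26], [28, 28, 28, 26], [28, 28, 28, 28], [28, 26, 26, 26, 26], [28, 28, 26, 26, 26], [28, 28, 28, 26, 26], [28, 28, 28, 28, 26], [28, 28, 26, 26, 26, 26], [28, 28, 28, 26, 26, 26], [28, 28, 28, 28, 26, 26], [28, 28, 28, 26, 26, 26, 26], [28, 28, 28, 28, 26, 26, 26], [28, 28, 28, 28, 26, 26, 26, 26]]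
noncomputable def qc_l0 : Level := ⟨0, [[26], [28]], [], 0x40000000000000000000000000000000000804000040000000000000000000100000100000000000001000000000000000002000000000000000000000000000001000000000000000000000000000000000000000000000000000000002000000000000000000000000100000008000000000000200000000000000000000000000000000000000000200008001000400180000000000000000008000000000000000000000000000000000000000000040000000000000000000000040000020000000000000000000000000000801, 25⟩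
noncomputable def qc_ls : List Level := [qc_l0]
noncomputable def q_I : List (List ℕ × List ℕ) := [([], []), ([26], []), ([28], [18, 6, 10, 0, 4, 6, 10]), ([26, 26], [25, 16, 2, 14, 24, 28]), ([28, 26], [27, 5, 28, 5, 21]), ([28, 28], [4, 11, 26, 30, 4, 29]), ([26, 26, 26], [0, 16, 29, 16, 27]), ([28, 26, 26], [18, 10, 21, 0, 11, 20]), ([28, 28, 26], [21, 7, 20, 30, 7, 31, 25]), ([28, 28, 28], [25, 26, 25, 30, 20, 2]), ([26, 26, 26, 26], [0, 12, 10, 25, 16, 18]), ([28, 26, 26, 26], [21, 22, 14, 20, 4, 7]), ([28, 28, 26, 26], [25, 2, 24, 29]), ([28, 28, 28, 26], [7, 21, 18, 24, 4, 22]), ([28, 28, 28, 28], [21, 8, 26, 11, 26]), ([28, 26, 26, 26, 26], [27, 31, 22, 28, 6, 10]), ([28, 28, 26, 26, 26], [27, 5, 31, 27, 10, 5]), ([28, 28, 28, 26, 26], [5, 2, 4, 21, 31, 4, 29]), ([28, 28, 28, 28, 26], [8, 4, 18, 26, 20]), ([28, 28,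 26, 26, 26, 26], [24, 6, 22, 21, 11, 6]), ([28, 28, 28, 26, 26, 26], [10, 16, 22, 24, 12, 2]), ([28, 28, 28, 28, 26, 26], [20, 7, 20, 30, 7]), ([28, 28, 28, 26, 26, 26, 26], [24, 2, 20, 14, 30, 12]), ([28, 28, 28, 28, 26, 26, 26], [11, 5, 8, 28, 12, 22, 27]), ([28, 28, 28, 28, 26, 26, 26, 26], [28, 25, 16, 14, 24])]
theorem ca_cj : cjB 11 x_ts (chainBase [] c2_ls) (sqW [30] r_W) ca_P = true := by decide +kernel
theorem cb_cj : cjB 11 x_ts (chainBase [] c2_ls) (sqW [30] r_W) cb_P = true := by decide +kernel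
theorem cc_cj : cjB 11 x_ts (chainBase [] c2_ls) (sqW [30] r_W) cc_P = true := by decide +kernel
theorem p_cl : closB 11 x_ts (chainBase [] c2_ls) [22, 24] p_E p_P = true := by decide +kernel
theorem pc_l0_ok : pc_l0.okT 11 x_ts [22, 24] [] (.cons [0] (.cons [2] (.cons [1] .nil .nil) (.cons [3] (.cons [1] .nil .nil) .nil)) (.cons [1] (.cons [2] (.cons [0] .nil .nil) (.cons [3] (.cons [0] .nil .nil) .nil)) (.cons [2] (.cons [0] (.cons [2] .nil (.cons [3] (.cons [1] .nil .nil) .nil)) (.cons [1] (.cons [2] .nil (.cons [3] .nil .nil)) .nil)) (.cons [3] (.cons [0] (.cons [2] (.cons [1] .nil .nil) (.cons [3] .nil .nil)) (.cons [1] (.cons [2] .nil (.cons [3] .nil .nil)) .nil)) .nil)))) = true := by decide +kernel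
theorem p_cls : clsB 11 x_ts (chainBase [] c2_ls) [22] p_I = true := by decide +kernel
theorem q_cl : closB 11 x_ts (chainBase [] c2_ls) [26, 28] q_E q_P = true := by decide +kernel
theorem qc_l0_ok : qc_l0.okT 11 x_ts [26, 28] [] (.cons [0] (.cons [0] (.cons [3] (.cons [3] .nil .nil) .nil) (.cons [3] .nil .nil)) (.cons [1] (.cons [1] .nil (.cons [3] (.cons [1] .nil .nil) .nil)) (.cons [2] (.cons [0] (.cons [0] (.cons [2] .nil .nil) .nil) (.cons [1] (.cons [1] (.cons [2] .nil .nil) .nil) (.cons [2] (.cons [0] .nil (.cons [1] .nil .nil)) .nil))) (.cons [3] (.cons [3] (.cons [0] .nil (.cons [1] (.cons [1] .nil .nil) .nil)) .nil) .nil)))) = true := by decide +kernel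
theorem q_cls : clsB 11 x_ts (chainBase [] c2_ls) [26] q_I = true := by decide +kernel
theorem ca_gd {G : Type*} [Group G] {φ : G →* Equiv.Perm ℕ} {γ : ℕ → G}
    (C : Cert φ γ 11 x_ns x_ts [0, 2, 4, 6, 8, 10, 12, 14, 16, 18, 20, 22, 24, 26, 28, 30] c2_ls) : ∀ c, Commute c (ev (ext γ) [30]) → Gd (ev (ext γ) [30]) c :=
  gd_of_cent (ca_cent C) ((allGd_sqW _ _).cj C.M C.base ca_cj) (by decide +kernel)
theorem cb_gd {G : Type*} [Group G] {φ : G →* Equiv.Perm ℕ} {γ : ℕ → G}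
    (C : Cert φ γ 11 x_ns x_ts [0, 2, 4, 6, 8, 10, 12, 14, 16, 18, 20, 22, 24, 26, 28, 30] c2_ls) : ∀ c, Commute c (ev (ext γ) [22]) → Gd (ev (ext γ) [30]) c :=
  gd_of_cent (cb_cent C) ((allGd_sqW _ _).cj C.M C.base cb_cj) (by decide +kernel)
theorem cc_gd {G : Type*} [Group G] {φ : G →* Equiv.Perm ℕ} {γ : ℕ → G}
    (C : Cert φ γ 11 x_ns x_ts [0, 2, 4, 6, 8, 10, 12, 14, 16, 18, 20, 22, 24, 26, 28, 30] c2_ls) : ∀ c, Commute c (ev (ext γ) [26]) → Gd (ev (ext γ) [30]) c :=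
  gd_of_cent (cc_cent C) ((allGd_sqW _ _).cj C.M C.base cc_cj) (by decide +kernel)
theorem pc_sound {G : Type*} [Group G] {φ : G →* Equiv.Perm ℕ} {γ : ℕ → G}
    (M : Model φ γ 11 x_ns x_ts) : ChainSound φ (gp γ [22, 24]) 11 [] pc_ls :=
  ⟨Level.okT_sound M pc_l0_ok, trivial⟩
theorem p_syl {G : Type*} [Group G] {φ : G →* Equiv.Perm ℕ} {γ : ℕ → G}
    (C : Cert φ γ 11 x_ns x_ts [0, 2, 4, 6, 8, 10, 12, 14, 16, 18, 20, 22, 24, 26, 28, 30] c2_ls) : Nat.card (gp γ [22, 24]) = 27 ∧ ∀ y ∈ gp γ [22, 24], y ≠ 1 → IsConj y (ev (ext γ) [22]) :=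
  haveI := C.fin
  cls_of_list C.M C.base (fun _ => mem_list C.M C.base (by decide +kernel) (by decide +kernel) p_cl) (pc_sound C.M)
    (by decide +kernel) (by decide +kernel) (by decide +kernel) p_cls
theorem qc_sound {G : Type*} [Group G] {φ : G →* Equiv.Perm ℕ} {γ : ℕ → G}
    (M : Model φ γ 11 x_ns x_ts) : ChainSound φ (gp γ [26, 28]) 11 [] qc_ls :=
  ⟨Level.okT_sound M qc_l0_ok, trivial⟩
theorem q_syl {G : Type*} [Group G] {φ : G →* Equiv.Perm ℕ} {γ : ℕ → G}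
    (C : Cert φ γ 11 x_ns x_ts [0, 2, 4, 6, 8, 10, 12, 14, 16, 18, 20, 22, 24, 26, 28, 30] c2_ls) : Nat.card (gp γ [26, 28]) = 25 ∧ ∀ y ∈ gp γ [26, 28], y ≠ 1 → IsConj y (ev (ext γ) [26]) :=
  haveI := C.fin
  cls_of_list C.M C.base (fun _ => mem_list C.M C.base (by decide +kernel) (by decide +kernel) q_cl) (qc_sound C.M)
    (by decide +kernel) (by decide +kernel) (by decide +kernel) q_cls

end Cfsg.Agent.TitsQ
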